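import Mathlib
import Cfsg.Agent.Lib.SpFourEven.Defs
import Cfsg.Agent.Lib.Forms.Max.TwoRoot.Basic

/-!
# Transvections of a simple subgroup of `Sp₄(q)`, `q` even: centres, connectedness, rationality
-/

set_option autoImplicit false
set_option linter.unusedSectionVars false
set_option linter.style.haveILetI false

namespace Cfsg.Agent.SpFourEven.Trv

open Matrix Cfsg.Agent.Aschbacher Cfsg.Agent.Forms.SympStd Cfsg.Agent.Forms.Max
open Cfsg.Agent.Forms.Max.Symp (spTrv_apply B_self mem_spGL_iff)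
open Cfsg.Agent.Forms.Max.TwoRoot (B_comm)

variable {F : Type*} [Field F] [Fintype F] [CharP F 2] {P : Subgroup (GL (Fin 2 ⊕ Fin 2) F)}

local notation "GL4" => GL (Fin 2 ⊕ Fin 2) F
local notation "Vec" => (Fin 2 ⊕ Fin 2 → F)
local notation "B" => sympB 2 F
local notation "Mat" => Matrix (Fin 2 ⊕ Fin 2) (Fin 2 ⊕ Fin 2) F

theorem exists_sqrt (c : F) : ∃ r : F, r * r = c := by
  obtain ⟨r, hr⟩ := FiniteField.isSquare_of_char_two (ringChar.eq F 2) c
  exact ⟨r, hr.symm⟩

theorem sq_inj {a b : F} (h : a * a = b * b) : a = b := by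
  have h2 : (2 : F) = 0 := CharTwo.two_eq_zero
  have : (a - b) * (a - b) = 0 := by linear_combination h - b * (a - b) * h2
  exact sub_eq_zero.1 (mul_self_eq_zero.1 this)

theorem spTrv_conj {g : GL4} (hg : g ∈ Cfsg.spGL 2 F) (v : Vec) (c : F) :
    g * spTrv v c * g⁻¹ = spTrv ((g : Mat) *ᵥ v) c := by
  rw [mul_inv_eq_iff_eq_mul]
  refine gl_ext fun x => ?_
  rw [mulVec_mul_GL, mulVec_mul_GL, spTrv_apply, spTrv_apply, mulVec_add, mulVec_smul, mem_spGL_iff.1 hg]

theorem spTrv_smul (t : F) (v : Vec) (c : F) : spTrv (t • v) c = spTrv v (c * t * t) :=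
  gl_ext fun x => by
    rw [spTrv_apply, spTrv_apply, map_smul, smul_smul, smul_eq_mul]
    congr 2
    ring

theorem exists_pair {v : Vec} (hv : v ≠ 0) : ∃ x, B x v ≠ 0 := by
  by_contra h
  push Not at h
  exact hv (Symp.nondeg.2 v h)

theorem spTrv_ne_one {v : Vec} (hv : v ≠ 0) {c : F} (hc : c ≠ 0) : spTrv v c ≠ 1 := fun e => by
  obtain ⟨x, hx⟩ := exists_pair hv
  have := congrArg (fun g : GL4 => (g : Mat) *ᵥ x) e
  simp only [spTrv_apply, Units.val_one, one_mulVec, add_eq_left] at this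
  rcases smul_eq_zero.1 this with h | h
  · exact mul_ne_zero hc hx h
  · exact hv h

theorem spTrv_mul_self (v : Vec) (c : F) : spTrv v c * spTrv v c = 1 := by
  rw [TwoRoot.spTrv_add, CharTwo.add_self_eq_zero, TwoRoot.spTrv_zero']

/-- equal transvections have parallel vectors -/
theorem spTrv_eq {v w : Vec} (hv : v ≠ 0) {c : F} (hc : c ≠ 0) {e : F} (h : spTrv v c = spTrv w e) :
    ∃ t : F, v = t • w ∧ c * t * t = e := by
  obtain ⟨x, hx⟩ := exists_pair hv
  have h1 : ∀ y, (c * B y v) • v = (e * B y w) • w := fun y => by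
    have := congrArg (fun g : GL4 => (g : Mat) *ᵥ y) h
    simpa [spTrv_apply] using this
  have hve : v = ((c * B x v)⁻¹ * (e * B x w)) • w := by
    rw [mul_smul, ← h1, smul_smul, inv_mul_cancel₀ (mul_ne_zero hc hx), one_smul]
  set t := (c * B x v)⁻¹ * (e * B x w)
  refine ⟨t, hve, ?_⟩
  have hw : w ≠ 0 := fun h0 => hv (by rw [hve, h0, smul_zero])
  obtain ⟨y, hy⟩ := exists_pair hw
  have := h1 y
  rw [hve, map_smul, smul_smul, smul_eq_mul] at this
  have h2 := smul_left_injective F hw this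
  refine mul_right_cancel₀ hy ?_
  linear_combination h2

/-- the vectors of the transvections of `P` -/
def Ctr (P : Subgroup (GL (Fin 2 ⊕ Fin 2) F)) (u : Fin 2 ⊕ Fin 2 → F) : Prop :=
  u ≠ 0 ∧ spTrv u 1 ∈ P

theorem ctr_of_mem {v : Vec} {c : F} (hv : v ≠ 0) (hc : c ≠ 0) (h : spTrv v c ∈ P) :
    ∃ r : F, r ≠ 0 ∧ r * r = c ∧ Ctr P (r • v) := by
  obtain ⟨r, hr⟩ := exists_sqrt c
  have hr0 : r ≠ 0 := fun e => hc (by rw [← hr, e, zero_mul])
  refine ⟨r, hr0, hr, smul_ne_zero hr0 hv, ?_⟩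
  rwa [spTrv_smul, one_mul, hr]

theorem exists_ctr (ht : HasTrv P) : ∃ u, Ctr P u := by
  obtain ⟨u, c, hu, hc, h⟩ := ht
  obtain ⟨r, -, -, hr⟩ := ctr_of_mem hu hc h
  exact ⟨_, hr⟩

theorem ctr_map (hC : Core P) {g : GL4} (hg : g ∈ P) {u : Vec} (hu : Ctr P u) :
    Ctr P ((g : Mat) *ᵥ u) := by
  refine ⟨fun e => hu.1 ?_, ?_⟩
  · have := congrArg (((g⁻¹ : GL4) : Mat) *ᵥ ·) e
    simpa [mulVec_mulVec] using this
  · rw [← spTrv_conj (hC.le hg)]
    exact mul_mem (mul_mem hg hu.2) (inv_mem hg)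

theorem ctr_move (hC : Core P) {u w : Vec} (hu : Ctr P u) (hw : Ctr P w) : Ctr P (w + B w u • u) := by
  have := ctr_map hC hu.2 hw
  rwa [spTrv_apply, one_mul] at this

/-- a subspace invariant under the transvections of `P` is trivial -/
theorem eq_bot_or_top (hC : Core P) (ht : HasTrv P) {W : Submodule F Vec}
    (h : ∀ u, Ctr P u → ∀ x ∈ W, x + B x u • u ∈ W) : W = ⊥ ∨ W = ⊤ := by
  obtain ⟨u₀, hu₀⟩ := exists_ctr ht
  let T : Subgroup GL4 := Cfsg.Geo.subspaceStabilizer W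
  let T' : Subgroup P := T.subgroupOf P
  have hall : ∀ u (hu : Ctr P u), (⟨spTrv u 1, hu.2⟩ : P) ∈ T' := fun u hu =>
    Subgroup.mem_subgroupOf.2 (stab_of_forall fun x hx => by
      rw [spTrv_apply, one_mul]; exact h u hu x hx)
  have hmem : (⟨spTrv u₀ 1, hu₀.2⟩ : P) ∈ T'.normalCore := fun g => by
    have he : g * (⟨spTrv u₀ 1, hu₀.2⟩ : P) * g⁻¹ =
        ⟨spTrv ((g.1 : Mat) *ᵥ u₀) 1, (ctr_map hC g.2 hu₀).2⟩ :=
      Subtype.ext (spTrv_conj (hC.le g.2) u₀ 1)
    rw [he]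
    exact hall _ (ctr_map hC g.2 hu₀)
  haveI := hC.simple
  have htop : T'.normalCore = ⊤ :=
    (inferInstance : T'.normalCore.Normal).eq_bot_or_eq_top.resolve_left fun e => by
      rw [e, Subgroup.mem_bot] at hmem
      exact spTrv_ne_one hu₀.1 one_ne_zero (congrArg Subtype.val hmem)
  refine hC.irred W ?_
  rintro _ ⟨g, hg, rfl⟩ _ ⟨x, hx, rfl⟩
  have hgT : g ∈ T := Subgroup.mem_subgroupOf.1 (T'.normalCore_le (htop.ge (Subgroup.mem_top (⟨g, hg⟩ : P))))
  exact map_of_stab hgT hx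

/-- a property of centres which passes to non-orthogonal centres holds for all centres -/
theorem conn_induction (hC : Core P) (ht : HasTrv P) (p : Vec → Prop)
    (h0 : ∃ u, Ctr P u ∧ p u) (step : ∀ a b, Ctr P a → Ctr P b → B a b ≠ 0 → p a → p b)
    {u : Vec} (hu : Ctr P u) : p u := by
  let W : Submodule F Vec := Submodule.span F {a | Ctr P a ∧ p a}
  obtain ⟨u₀, hu₀, hp₀⟩ := h0
  have hW : W = ⊤ := by
    refine (eq_bot_or_top hC ht (W := W) fun v hv x hx => ?_).resolve_left fun e =>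
      hu₀.1 ((Submodule.mem_bot F).1 (e ▸ Submodule.subset_span ⟨hu₀, hp₀⟩))
    induction hx using Submodule.span_induction with
    | mem a ha =>
      by_cases hav : B a v = 0
      · rw [hav, zero_smul, add_zero]; exact Submodule.subset_span ha
      · exact add_mem (Submodule.subset_span ha)
          (W.smul_mem _ (Submodule.subset_span ⟨hv, step a v ha.1 hv hav ha.2⟩))
    | zero => simp
    | add a b _ _ ha hb =>
      rw [map_add, LinearMap.add_apply, add_smul, show a + b + (B a v • v + B b v • v) =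
        (a + B a v • v) + (b + B b v • v) by abel]
      exact add_mem ha hb
    | smul c a _ ha =>
      rw [map_smul, LinearMap.smul_apply, smul_assoc, ← smul_add]
      exact W.smul_mem c ha
  obtain ⟨a, ha, hau⟩ : ∃ a, (Ctr P a ∧ p a) ∧ B a u ≠ 0 := by
    by_contra hne
    push Not at hne
    refine hu.1 (Symp.nondeg.2 u fun x => ?_)
    have hx : x ∈ W := hW ▸ Submodule.mem_top
    induction hx using Submodule.span_induction with
    | mem a ha => exact hne a ha
    | zero => simp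
    | add a b _ _ ha hb => rw [map_add, LinearMap.add_apply, ha, hb, add_zero]
    | smul c a _ ha => rw [map_smul, LinearMap.smul_apply, ha, smul_zero]
  exact step a u ha.1 hu hau ha.2

theorem exists_nonorth (hC : Core P) (ht : HasTrv P) {x : Vec} (hx : x ≠ 0) : ∃ a, Ctr P a ∧ B x a ≠ 0 := by
  by_contra h
  push Not at h
  let W : Submodule F Vec := LinearMap.ker (B x)
  have hW : W = ⊥ ∨ W = ⊤ := eq_bot_or_top hC ht fun v hv y hy => by
    simp only [W, LinearMap.mem_ker, map_add, map_smul, h v hv, smul_zero, add_zero] at hy ⊢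
    exact hy
  obtain ⟨u, hu⟩ := exists_ctr ht
  have huW : u ∈ W := LinearMap.mem_ker.2 (h u hu)
  rcases hW with e | e
  · rw [e, Submodule.mem_bot] at huW
    exact hu.1 huW
  · refine hx (Symp.nondeg.1 x fun y => ?_)
    have : y ∈ W := e ▸ Submodule.mem_top
    exact LinearMap.mem_ker.1 this

theorem span_ctr (hC : Core P) (ht : HasTrv P) : Submodule.span F {u | Ctr P u} = ⊤ := by
  obtain ⟨u₀, hu₀⟩ := exists_ctr ht
  refine (eq_bot_or_top hC ht fun v hv x hx => ?_).resolve_left fun e =>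
    hu₀.1 ((Submodule.mem_bot F).1 (e ▸ Submodule.subset_span hu₀))
  exact add_mem hx (Submodule.smul_mem _ _ (Submodule.subset_span hv))

/-- values of the form on the centres in `K` make `P` rational over `K` -/
theorem rational (hC : Core P) (ht : HasTrv P) (K : Subfield F)
    (hK : ∀ u w, Ctr P u → Ctr P w → B u w ∈ K) :
    Cfsg.Geo.RealisableOver K (Cfsg.Geo.matrixSet P) := by
  classical
  obtain ⟨s, hs, hsp, hli⟩ := exists_linearIndependent F {u : Vec | Ctr P u}
  rw [span_ctr hC ht] at hsp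
  let bs : Module.Basis s F Vec := Module.Basis.mk hli (by rw [Subtype.range_coe]; exact hsp.ge)
  haveI : Fintype s := Fintype.ofFinite s
  have hcard : Fintype.card s = Fintype.card (Fin 2 ⊕ Fin 2) := by
    rw [← Module.finrank_eq_card_basis bs, Module.finrank_fintype_fun_eq_card]
  let e := Fintype.equivOfCardEq hcard
  let b := bs.reindex e
  have hb : ∀ i, Ctr P (b i) := fun i => by
    simp only [b, Module.Basis.reindex_apply, bs, Module.Basis.mk_apply]
    exact hs (e.symm i).2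
  let M : Matrix (Fin 2 ⊕ Fin 2) (Fin 2 ⊕ Fin 2) K :=
    Matrix.of fun i j => ⟨B (b i) (b j), hK _ _ (hb i) (hb j)⟩
  have hGm : ∀ ξ : Vec, ∀ i, (M.map K.subtype *ᵥ ξ) i = B (b i) (∑ j, ξ j • b j) := fun ξ i => by
    simp [M, Matrix.mulVec, dotProduct, mul_comm]
  have hMdet : M.det ≠ 0 := fun h0 => by
    have h0' : (M.map K.subtype).det = 0 := by
      rw [← RingHom.mapMatrix_apply, ← RingHom.map_det, h0, map_zero]
    obtain ⟨ξ, hξ, hξ0⟩ := Matrix.exists_mulVec_eq_zero_iff.2 h0'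
    have hz : ∑ j, ξ j • b j = 0 := Symp.nondeg.2 _ fun y => by
      have : ∀ i, B (b i) (∑ j, ξ j • b j) = 0 := fun i => by rw [← hGm, hξ0, Pi.zero_apply]
      exact DFunLike.congr_fun (b.ext (f₁ := (B).flip (∑ j, ξ j • b j)) (f₂ := 0) fun i => this i) y
    exact hξ (funext fun j => Fintype.linearIndependent_iff.1 b.linearIndependent ξ hz j)
  let T : GL4 := GeneralLinearGroup.mkOfDetNeZero (Matrix.of fun i j => b j i) fun h0 => by
    obtain ⟨ξ, hξ, hξ0⟩ := Matrix.exists_mulVec_eq_zero_iff.2 h0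
    refine hξ (funext fun j => Fintype.linearIndependent_iff.1 b.linearIndependent ξ ?_ j)
    rw [← hξ0]
    funext i
    simp [Matrix.mulVec, dotProduct, Finset.sum_apply, mul_comm]
  have hT : ∀ ξ : Vec, (T : Mat) *ᵥ ξ = ∑ j, ξ j • b j := fun ξ => by
    funext i
    show (Matrix.of (fun i j => b j i) *ᵥ ξ) i = _
    simp [Matrix.mulVec, dotProduct, Finset.sum_apply, mul_comm]
  refine ⟨T⁻¹, ?_⟩
  rintro _ ⟨g, hg, rfl⟩ i j
  set ξ : Vec := fun k => (((T⁻¹ : GL4) : Mat) * (g : Mat) * (T : Mat)) k j with hξ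
  have hTξ : (T : Mat) *ᵥ ξ = (g : Mat) *ᵥ b j := by
    funext k
    show ((T : Mat) * (((T⁻¹ : GL4) : Mat) * (g : Mat) * (T : Mat))) k j = _
    rw [← mul_assoc, ← mul_assoc, Units.mul_inv, one_mul]
    rfl
  rw [hT] at hTξ
  let r : Fin 2 ⊕ Fin 2 → K := fun i => ⟨B (b i) ((g : Mat) *ᵥ b j), hK _ _ (hb i) (ctr_map hC hg (hb j))⟩
  have hMξ : M.map K.subtype *ᵥ ξ = fun i => (r i : F) := funext fun i => by rw [hGm, hTξ]
  have hunit : IsUnit M.det := isUnit_iff_ne_zero.2 hMdet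
  have e2 : (M⁻¹).map K.subtype * M.map K.subtype = 1 := by
    rw [← Matrix.map_mul, Matrix.nonsing_inv_mul _ hunit, Matrix.map_one _ (map_zero _) (map_one _)]
  have : ξ = (M⁻¹).map K.subtype *ᵥ fun i => (r i : F) := by
    rw [← hMξ, mulVec_mulVec, e2, one_mulVec]
  rw [inv_inv]
  show ξ i ∈ K
  rw [this]
  show ∑ k, (M⁻¹).map K.subtype i k * (r k : F) ∈ K
  exact sum_mem fun k _ => mul_mem ((M⁻¹) i k).2 (r k).2

end Cfsg.Agent.SpFourEven.Trv
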