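import Mathlib
import Cfsg.Agent.Lib.SpFourEven.Trv.Basic
import Cfsg.Agent.Lib.PSLThree.Even.Plane

/-!
# Root groups with more than two elements: rational over a field, or the whole symplectic group
-/

set_option autoImplicit false
set_option linter.unusedSectionVars false

namespace Cfsg.Agent.SpFourEven.Trv

open Matrix Cfsg.Agent.Aschbacher Cfsg.Agent.Forms.SympStd Cfsg.Agent.Forms.Max
open Cfsg.Agent.Forms.Max.Symp (spTrv_apply B_self centres centres_map centres_smul spGL_le_of_centres)
open Cfsg.Agent.Forms.Max.TwoRoot (B_comm)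
open Cfsg.Agent.Classical.GL2 (uniSL lowSL coe_uniSL coe_lowSL)
open scoped MatrixGroups

variable {F : Type*} [Field F] [Fintype F] [CharP F 2] {P : Subgroup (GL (Fin 2 ⊕ Fin 2) F)}

local notation "GL4" => GL (Fin 2 ⊕ Fin 2) F
local notation "Vec" => (Fin 2 ⊕ Fin 2 → F)
local notation "B" => sympB 2 F
local notation "Mat" => Matrix (Fin 2 ⊕ Fin 2) (Fin 2 ⊕ Fin 2) F

/-- a subgroup from a set closed under products, in a finite group -/
def ofMulClosed {G : Type*} [Group G] [Finite G] (S : Set G) (h1 : (1 : G) ∈ S)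
    (hm : ∀ a b, a ∈ S → b ∈ S → a * b ∈ S) : Subgroup G where
  carrier := S
  one_mem' := h1
  mul_mem' := fun {a b} => hm a b
  inv_mem' := fun {a} ha => by
    have hp : ∀ n : ℕ, a ^ n ∈ S := fun n => by
      induction n with
      | zero => simpa using h1
      | succ n ih => rw [pow_succ]; exact hm _ _ ih ha
    have he : a⁻¹ = a ^ (orderOf a - 1) := inv_eq_of_mul_eq_one_left (by
      rw [← pow_succ, Nat.sub_add_cancel (orderOf_pos a), pow_orderOf_eq_one])
    exact he ▸ hp _

/-- the elements of `P` acting as `M` on a hyperbolic line and fixing its perpendicular -/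
def LineAct (P : Subgroup (GL (Fin 2 ⊕ Fin 2) F)) (u v : Fin 2 ⊕ Fin 2 → F) (M : SL(2, F)) : Prop :=
  ∃ g ∈ P, (g : Matrix (Fin 2 ⊕ Fin 2) (Fin 2 ⊕ Fin 2) F) *ᵥ u =
      (M : Matrix (Fin 2) (Fin 2) F) 0 0 • u + (M : Matrix (Fin 2) (Fin 2) F) 1 0 • v ∧
    (g : Matrix (Fin 2 ⊕ Fin 2) (Fin 2 ⊕ Fin 2) F) *ᵥ v =
      (M : Matrix (Fin 2) (Fin 2) F) 0 1 • u + (M : Matrix (Fin 2) (Fin 2) F) 1 1 • v ∧
    ∀ x, sympB 2 F x u = 0 → sympB 2 F x v = 0 →
      (g : Matrix (Fin 2 ⊕ Fin 2) (Fin 2 ⊕ Fin 2) F) *ᵥ x = x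

noncomputable def lineSub (P : Subgroup (GL (Fin 2 ⊕ Fin 2) F)) (u v : Fin 2 ⊕ Fin 2 → F) : Subgroup SL(2, F) :=
  ofMulClosed {M | LineAct P u v M}
    ⟨1, one_mem P, by simp, by simp, fun x _ _ => one_mulVec x⟩
    (fun M M' ⟨g, hg, gu, gv, gx⟩ ⟨g', hg', gu', gv', gx'⟩ =>
      ⟨g * g', mul_mem hg hg', by
          rw [mulVec_mul_GL, gu', mulVec_add, mulVec_smul, mulVec_smul, gu, gv]
          show _ = ((M : Matrix (Fin 2) (Fin 2) F) * (M' : Matrix (Fin 2) (Fin 2) F)) 0 0 • u +
            ((M : Matrix (Fin 2) (Fin 2) F) * (M' : Matrix (Fin 2) (Fin 2) F)) 1 0 • v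
          simp only [Matrix.mul_apply, Fin.sum_univ_two]
          module, by
          rw [mulVec_mul_GL, gv', mulVec_add, mulVec_smul, mulVec_smul, gu, gv]
          show _ = ((M : Matrix (Fin 2) (Fin 2) F) * (M' : Matrix (Fin 2) (Fin 2) F)) 0 1 • u +
            ((M : Matrix (Fin 2) (Fin 2) F) * (M' : Matrix (Fin 2) (Fin 2) F)) 1 1 • v
          simp only [Matrix.mul_apply, Fin.sum_univ_two]
          module,
        fun x hu hv => by rw [mulVec_mul_GL, gx' x hu hv, gx x hu hv]⟩)

/-- a vector is its part in the line plus its part in the perpendicular -/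
theorem perp_part {u v : Vec} (h : B u v = 1) (x : Vec) :
    B (x + B x v • u + B x u • v) u = 0 ∧ B (x + B x v • u + B x u • v) v = 0 := by
  have h' : B v u = 1 := by rw [B_comm]; exact h
  constructor <;>
    simp only [map_add, map_smul, LinearMap.add_apply, LinearMap.smul_apply, smul_eq_mul, B_self, h, h', mul_zero,
      mul_one, add_zero] <;> exact CharTwo.add_self_eq_zero _

theorem eq_of_lineAct {u v : Vec} (h : B u v = 1) {g k : GL4}
    (h1 : (g : Mat) *ᵥ u = (k : Mat) *ᵥ u) (h2 : (g : Mat) *ᵥ v = (k : Mat) *ᵥ v)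
    (h3 : ∀ x, B x u = 0 → B x v = 0 → (g : Mat) *ᵥ x = (k : Mat) *ᵥ x) : g = k := gl_ext fun x => by
  have hx : x = (x + B x v • u + B x u • v) + (B x v • u + B x u • v) := by
    rw [add_assoc x, add_assoc x,
      show B x v • u + B x u • v + (B x v • u + B x u • v) = (B x v + B x v) • u + (B x u + B x u) • v by module,
      CharTwo.add_self_eq_zero, CharTwo.add_self_eq_zero, zero_smul, zero_smul, add_zero, add_zero]
  obtain ⟨p1, p2⟩ := perp_part h x
  generalize hy : x + B x v • u + B x u • v = y at hx p1 p2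
  rw [hx]
  simp only [mulVec_add, mulVec_smul, h1, h2, h3 _ p1 p2]

theorem uni_mem_iff {u v : Vec} (h : B u v = 1) (k : F) : uniSL k ∈ lineSub P u v ↔ spTrv u k ∈ P := by
  have e1 : (spTrv u k : Mat) *ᵥ u = u := by simp [spTrv_apply, B_self]
  have e2 : (spTrv u k : Mat) *ᵥ v = v + k • u := by rw [spTrv_apply, B_comm u v, h, mul_one]
  have e3 : ∀ x, B x u = 0 → B x v = 0 → (spTrv u k : Mat) *ᵥ x = x := fun x hx _ => by
    simp [spTrv_apply, hx]
  constructor
  · rintro ⟨g, hg, gu, gv, gx⟩
    rw [coe_uniSL] at gu gv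
    have : g = spTrv u k := eq_of_lineAct h (by rw [gu, e1]; simp) (by rw [gv, e2]; simp [add_comm])
      fun x hu hv => by rw [gx x hu hv, e3 x hu hv]
    exact this ▸ hg
  · intro hk
    exact ⟨_, hk, by rw [e1, coe_uniSL]; simp, by rw [e2, coe_uniSL]; simp [add_comm], e3⟩

theorem low_mem_iff {u v : Vec} (h : B u v = 1) (k : F) : lowSL k ∈ lineSub P u v ↔ spTrv v k ∈ P := by
  have e1 : (spTrv v k : Mat) *ᵥ v = v := by simp [spTrv_apply, B_self]
  have e2 : (spTrv v k : Mat) *ᵥ u = u + k • v := by rw [spTrv_apply, h, mul_one]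
  have e3 : ∀ x, B x u = 0 → B x v = 0 → (spTrv v k : Mat) *ᵥ x = x := fun x _ hx => by
    simp [spTrv_apply, hx]
  constructor
  · rintro ⟨g, hg, gu, gv, gx⟩
    rw [coe_lowSL] at gu gv
    have : g = spTrv v k := eq_of_lineAct h (by rw [gu, e2]; simp) (by rw [gv, e1]; simp)
      fun x hu hv => by rw [gx x hu hv, e3 x hu hv]
    exact this ▸ hg
  · intro hk
    exact ⟨_, hk, by rw [e2, coe_lowSL]; simp, by rw [e1, coe_lowSL]; simp, e3⟩

/-- on a non-orthogonal pair the root groups are one subfield, which contains the value of the form -/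
theorem line_field {u w : Vec} (hu : Ctr P u) (hw : Ctr P w) (h : B u w ≠ 0) {a : F} (ha : spTrv u a ∈ P)
    (a0 : a ≠ 0) (a1 : a ≠ 1) :
    ∃ K : Subfield F, a ∈ K ∧ B u w ∈ K ∧ (∀ k, spTrv u k ∈ P ↔ k ∈ K) ∧ ∀ k, spTrv w k ∈ P ↔ k ∈ K := by
  set l := B u w with hl
  set v := l⁻¹ • w with hv
  have huv : B u v = 1 := by rw [hv, map_smul, smul_eq_mul, ← hl, inv_mul_cancel₀ h]
  have hvk : ∀ k, spTrv w k = spTrv v (k * l * l) := fun k => by
    rw [hv, spTrv_smul]
    congr 1
    field_simp
  obtain ⟨K, hlK, haK, hU, hL⟩ := PSLThree.Even.Plane.classify (S := lineSub P u v) a0 a1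
    (mul_ne_zero h h) ((uni_mem_iff huv 1).2 hu.2) ((uni_mem_iff huv a).2 ha)
    ((low_mem_iff huv _).2 (by have := hw.2; rwa [hvk, one_mul] at this))
  obtain ⟨r, hr⟩ := FiniteField.isSquare_of_char_two (F := K)
    (ringChar.eq_iff.2 ((K.subtype.charP_iff_charP 2).2 inferInstance)) (⟨l * l, hlK⟩ : K)
  have hlK' : l ∈ K := by
    have : l = (r : F) := sq_inj (congrArg Subtype.val hr)
    rw [this]; exact r.2
  refine ⟨K, haK, hlK', fun k => (uni_mem_iff huv k).symm.trans (hU k), fun k => ?_⟩
  rw [hvk, ← low_mem_iff huv, hL]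
  refine ⟨fun hk => ?_, fun hk => mul_mem (mul_mem hk hlK') hlK'⟩
  have := mul_mem hk (inv_mem (mul_mem hlK' hlK'))
  rwa [show k * l * l * (l * l)⁻¹ = k by field_simp] at this

/-- the line through two non-orthogonal full centres consists of centres -/
theorem line_centres (hle : P ≤ Cfsg.spGL 2 F) {u w : Vec} (hu : u ∈ centres P) (hw : w ∈ centres P)
    (h : B u w ≠ 0) (p q : F) : p • u + q • w ∈ centres P := by
  by_cases hq : q = 0
  · rw [hq, zero_smul, add_zero]; exact centres_smul p hu
  · have hwu : B w u ≠ 0 := by rw [B_comm]; exact h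
    have h1 := centres_map (hle (hw (q / B u w))) (hw (q / B u w)) hu
    rw [spTrv_apply, div_mul_cancel₀ _ h] at h1
    have h2 := centres_map (hle (hu ((p - 1) / (q * B w u)))) (hu ((p - 1) / (q * B w u))) h1
    rw [spTrv_apply, map_add, map_smul, LinearMap.add_apply, LinearMap.smul_apply, smul_eq_mul, B_self, zero_add,
      div_mul_cancel₀ _ (mul_ne_zero hq hwu)] at h2
    rw [show p • u + q • w = u + q • w + (p - 1) • u by module]
    exact h2

/-- all root groups full: the whole symplectic group -/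
theorem full (hC : Core P) (ht : HasTrv P) (h4 : 4 ≤ Fintype.card F)
    (hall : ∀ u, Ctr P u → ∀ k, spTrv u k ∈ P) : P = Cfsg.spGL 2 F := by
  classical
  refine le_antisymm hC.le (spGL_le_of_centres fun v => ?_)
  obtain ⟨a, a0, a1⟩ : ∃ a : F, a ≠ 0 ∧ a ≠ 1 := by
    obtain ⟨a, -, ha⟩ := Finset.exists_mem_notMem_of_card_lt_card
      (s := ({0, 1} : Finset F)) (t := Finset.univ) (by rw [Finset.card_univ]; simp; omega)
    exact ⟨a, fun e => ha (by simp [e]), fun e => ha (by simp [e])⟩
  have hC0 : ∀ u, Ctr P u → u ∈ centres P := hall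
  have h0 : (0 : Vec) ∈ centres P := fun c => by
    rw [show spTrv (0 : Vec) c = 1 from gl_ext fun x => by simp [spTrv_apply]]; exact one_mem P
  -- a common neighbour
  have common : ∀ u, u ≠ 0 → ∀ w, Ctr P w → ∃ z ∈ centres P, B u z ≠ 0 ∧ (B u w ≠ 0 ∨ B w z ≠ 0) := by
    intro u hu w hw
    obtain ⟨a₀, ha₀, hua₀⟩ := exists_nonorth hC ht hu
    refine conn_induction hC ht (fun b => ∃ z ∈ centres P, B u z ≠ 0 ∧ (B u b ≠ 0 ∨ B b z ≠ 0))
      ⟨a₀, ha₀, a₀, hC0 _ ha₀, hua₀, Or.inl hua₀⟩ ?_ hw
    rintro a b ha hb hab ⟨z, hz, huz, hor⟩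
    by_cases hub : B u b = 0
    swap
    · exact ⟨z, hz, huz, Or.inl hub⟩
    by_cases hua : B u a = 0
    swap
    · exact ⟨a, hC0 _ ha, hua, Or.inr (by rw [B_comm]; exact hab)⟩
    by_cases hbz : B b z = 0
    swap
    · exact ⟨z, hz, huz, Or.inr hbz⟩
    have haz : B a z ≠ 0 := hor.resolve_left (fun h => h hua)
    refine ⟨z + a, by simpa using line_centres hC.le hz (hC0 _ ha) (by rw [B_comm]; exact haz) 1 1,
      by simpa [map_add, hua] using huz, Or.inr ?_⟩
    rw [map_add, hbz, zero_add, B_comm]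
    exact hab
  -- sums of centres are centres
  have hadd : ∀ u w, u ∈ centres P → Ctr P w → u + w ∈ centres P := by
    intro u w hu hw
    by_cases hu0 : u = 0
    · rw [hu0, zero_add]; exact hC0 _ hw
    by_cases huw : B u w = 0
    swap
    · simpa using line_centres hC.le hu (hC0 _ hw) huw 1 1
    by_cases hs : u + w = 0
    · rw [hs]; exact h0
    obtain ⟨z, hz, huz, hor⟩ := common u hu0 w hw
    have hwz : B w z ≠ 0 := hor.resolve_left (fun h => h huw)
    have key : ∀ z', z' ∈ centres P → B u z' ≠ 0 → B w z' ≠ 0 → B u z' ≠ B w z' → u + w ∈ centres P := by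
      intro z' hz' hu' hw' hne
      have h1 : u + z' ∈ centres P := by simpa using line_centres hC.le hu hz' hu' 1 1
      have h2 : u + z' + w ∈ centres P := by
        simpa using line_centres hC.le h1 (hC0 _ hw)
          (by rw [map_add, LinearMap.add_apply, huw, zero_add, B_comm]; exact hw') 1 1
      have h3 : B (u + z' + w) z' ≠ 0 := by
        simp only [map_add, LinearMap.add_apply, B_self, add_zero]
        exact fun h => hne (CharTwo.add_eq_zero.1 h)
      have h4 := line_centres hC.le h2 hz' h3 1 1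
      rwa [one_smul, one_smul, show u + z' + w + z' = u + w + (z' + z') by abel,
        show z' + z' = (0 : Vec) from funext fun i => CharTwo.add_self_eq_zero _, add_zero] at h4
    by_cases hne : B u z = B w z
    swap
    · exact key z hz huz hwz hne
    obtain ⟨x, hx, hsx⟩ := exists_nonorth hC ht hs
    rw [map_add, LinearMap.add_apply] at hsx
    have hxne : B u x ≠ B w x := fun e => hsx (by rw [e, CharTwo.add_self_eq_zero])
    by_cases hux : B u x = 0
    · have hwx : B w x ≠ 0 := fun e => hxne (by rw [hux, e])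
      by_cases hxz : B x z = 0
      · have hx' : x + w ∈ centres P := by
          simpa using line_centres hC.le (hC0 _ hx) (hC0 _ hw) (by rw [B_comm]; exact hwx) 1 1
        have hzx : B z (x + w) ≠ 0 := by rw [map_add, B_comm x z, hxz, zero_add, B_comm]; exact hwz
        refine key _ (line_centres hC.le hz hx' hzx 1 (a * B w z / B w x)) ?_ ?_ ?_
        · simpa [map_add, map_smul, hux, huw] using huz
        · simp only [map_add, map_smul, B_self, add_zero, smul_eq_mul, div_mul_cancel₀ _ hwx, one_mul]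
          exact fun h => a1 (mul_right_cancel₀ hwz (by rw [one_mul]; exact (CharTwo.add_eq_zero.1 h).symm))
        · simp only [map_add, map_smul, B_self, add_zero, smul_eq_mul, div_mul_cancel₀ _ hwx, hux, huw, mul_zero,
            one_mul, hne]
          exact fun h => mul_ne_zero a0 hwz (left_eq_add.1 h)
      · refine key _ (line_centres hC.le hz (hC0 _ hx) (by rw [B_comm]; exact hxz) 1 (a * B w z / B w x)) ?_ ?_ ?_
        · simpa [map_add, map_smul, hux] using huz
        · simp only [map_add, map_smul, smul_eq_mul, div_mul_cancel₀ _ hwx, one_mul]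
          exact fun h => a1 (mul_right_cancel₀ hwz (by rw [one_mul]; exact (CharTwo.add_eq_zero.1 h).symm))
        · simp only [map_add, map_smul, smul_eq_mul, div_mul_cancel₀ _ hwx, hux, mul_zero, add_zero, one_mul, hne]
          exact fun h => mul_ne_zero a0 hwz (left_eq_add.1 h)
    by_cases hwx : B w x = 0
    swap
    · exact key x (hC0 _ hx) hux hwx hxne
    have hwu : B w u = 0 := by rw [B_comm]; exact huw
    by_cases hxz : B x z = 0
    · have hx' : x + u ∈ centres P := by
        simpa using line_centres hC.le (hC0 _ hx) hu (by rw [B_comm]; exact hux) 1 1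
      have hzx : B z (x + u) ≠ 0 := by rw [map_add, B_comm x z, hxz, zero_add, B_comm]; exact huz
      refine key _ (line_centres hC.le hz hx' hzx 1 (a * B u z / B u x)) ?_ ?_ ?_
      · simp only [map_add, map_smul, B_self, add_zero, smul_eq_mul, div_mul_cancel₀ _ hux, one_mul]
        exact fun h => a1 (mul_right_cancel₀ huz (by rw [one_mul]; exact (CharTwo.add_eq_zero.1 h).symm))
      · simpa [map_add, map_smul, hwx, hwu] using hwz
      · simp only [map_add, map_smul, B_self, add_zero, smul_eq_mul, div_mul_cancel₀ _ hux, hwx, hwu, mul_zero,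
          one_mul, hne]
        exact fun h => mul_ne_zero a0 hwz (add_eq_left.1 h)
    · refine key _ (line_centres hC.le hz (hC0 _ hx) (by rw [B_comm]; exact hxz) 1 (a * B u z / B u x)) ?_ ?_ ?_
      · simp only [map_add, map_smul, smul_eq_mul, div_mul_cancel₀ _ hux, one_mul]
        exact fun h => a1 (mul_right_cancel₀ huz (by rw [one_mul]; exact (CharTwo.add_eq_zero.1 h).symm))
      · simpa [map_add, map_smul, hwx] using hwz
      · simp only [map_add, map_smul, smul_eq_mul, div_mul_cancel₀ _ hux, hwx, mul_zero, add_zero, one_mul, hne]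
        exact fun h => mul_ne_zero a0 hwz (add_eq_left.1 h)
  have hsmulCtr : ∀ (c : F) (w : Vec), Ctr P w → c • w = 0 ∨ Ctr P (c • w) := fun c w hw => by
    by_cases hc : c • w = 0
    · exact Or.inl hc
    · exact Or.inr ⟨hc, centres_smul c (hC0 _ hw) 1⟩
  have hmem : v ∈ Submodule.span F {u | Ctr P u} := by rw [span_ctr hC ht]; trivial
  refine Submodule.span_induction (p := fun v _ => ∀ u ∈ centres P, u + v ∈ centres P)
    (fun x hx u hu => hadd u x hu hx) (fun u hu => by simpa using hu)
    (fun x y _ _ hx hy u hu => by rw [← add_assoc]; exact hy _ (hx u hu))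
    (fun c x hx ih u hu => ?_) hmem 0 h0 |> fun h => by simpa using h
  by_cases hc : c = 0
  · simpa [hc] using hu
  · have := ih (c⁻¹ • u) (centres_smul _ hu)
    have := centres_smul c this
    rwa [smul_add, smul_smul, mul_inv_cancel₀ hc, one_smul] at this

end Cfsg.Agent.SpFourEven.Trv
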