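import Mathlib
import Cfsg.Agent.Lib.SpFourEven.Trv.Line

/-!
# The thick case
-/

set_option autoImplicit false
set_option linter.unusedSectionVars false

namespace Cfsg.Agent.SpFourEven.Trv

open Matrix Cfsg.Agent.Aschbacher Cfsg.Agent.Forms.SympStd Cfsg.Agent.Forms.Max
open Cfsg.Agent.Forms.Max.TwoRoot (B_comm)

variable {F : Type*} [Field F] [Fintype F] [CharP F 2] {P : Subgroup (GL (Fin 2 ⊕ Fin 2) F)}

local notation "B" => sympB 2 F

/-- some root group has more than two elements: rational over a proper subfield, or everything -/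
theorem thick_case (hC : Core P) (ht : HasTrv P) (h4 : 4 ≤ Fintype.card F) {u : Fin 2 ⊕ Fin 2 → F} (hu : Ctr P u)
    {a : F} (ha : spTrv u a ∈ P) (a0 : a ≠ 0) (a1 : a ≠ 1) :
    P = Cfsg.spGL 2 F ∨ ∃ K : Subfield F, K ≠ ⊤ ∧ Cfsg.Geo.RealisableOver K (Cfsg.Geo.matrixSet P) := by
  obtain ⟨w, hw, huw⟩ := exists_nonorth hC ht hu.1
  obtain ⟨K, haK, -, hKu, -⟩ := line_field hu hw huw ha a0 a1
  have hall : ∀ v, Ctr P v → ∀ k, spTrv v k ∈ P ↔ k ∈ K := fun v hv => by
    refine conn_induction hC ht (fun v => ∀ k, spTrv v k ∈ P ↔ k ∈ K) ⟨u, hu, hKu⟩ ?_ hv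
    intro c d hc hd hcd hp k
    obtain ⟨K', -, -, hc', hd'⟩ := line_field hc hd hcd ((hp a).2 haK) a0 a1
    rw [hd' k, ← hc' k, hp k]
  have hB : ∀ c d, Ctr P c → Ctr P d → B c d ∈ K := fun c d hc hd => by
    by_cases hcd : B c d = 0
    · rw [hcd]; exact zero_mem K
    · obtain ⟨K', -, hl, hc', -⟩ := line_field hc hd hcd ((hall c hc a).2 haK) a0 a1
      exact (hall c hc _).1 ((hc' _).2 hl)
  by_cases hK : K = ⊤
  · exact Or.inl (full hC ht h4 fun v hv k => (hall v hv k).2 (hK ▸ Subfield.mem_top k))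
  · exact Or.inr ⟨K, hK, rational hC ht K hB⟩

end Cfsg.Agent.SpFourEven.Trv
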