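import Mathlib
import Cfsg.Agent.Lib.SpFourEven.Trv.Basic

/-!
# Thin root groups: the values of the form on a triangle of centres
-/

set_option autoImplicit false
set_option linter.unusedSectionVars false

namespace Cfsg.Agent.SpFourEven.Trv

open Matrix Cfsg.Agent.Aschbacher Cfsg.Agent.Forms.SympStd Cfsg.Agent.Forms.Max
open Cfsg.Agent.Forms.Max.Symp (spTrv_apply B_self)
open Cfsg.Agent.Forms.Max.TwoRoot (B_comm)

variable {F : Type*} [Field F] [Fintype F] [CharP F 2] {P : Subgroup (GL (Fin 2 ⊕ Fin 2) F)}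

local notation "GL4" => GL (Fin 2 ⊕ Fin 2) F
local notation "Vec" => (Fin 2 ⊕ Fin 2 → F)
local notation "B" => sympB 2 F
local notation "Mat" => Matrix (Fin 2 ⊕ Fin 2) (Fin 2 ⊕ Fin 2) F

/-- no root group of `P` has more than two elements -/
def Thin (P : Subgroup (GL (Fin 2 ⊕ Fin 2) F)) : Prop :=
  ∀ (u : Fin 2 ⊕ Fin 2 → F) (k : F), Ctr P u → spTrv u k ∈ P → k = 0 ∨ k = 1

theorem smul_eq_self (hthin : Thin P) {u : Vec} (hu : Ctr P u) {t : F} (h : Ctr P (t • u)) : t = 1 := by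
  have h2 := h.2
  rw [spTrv_smul, one_mul] at h2
  rcases hthin u _ hu h2 with e | e
  · exact absurd (mul_self_eq_zero.1 e) fun e0 => h.1 (by rw [e0, zero_smul])
  · exact sq_inj (by rw [e, one_mul])

theorem indep_of_ne (hthin : Thin P) {u w : Vec} (hu : Ctr P u) (hw : Ctr P w) (hne : u ≠ w) (t : F) :
    w ≠ t • u := fun e => hne (by
  subst e
  rw [smul_eq_self hthin hu hw, one_smul])

/-- every centre has a partner with value outside the prime field -/
theorem exists_big (hC : Core P) (ht : HasTrv P) {a b : Vec} (ha : Ctr P a) (hb : Ctr P b) (h0 : B a b ≠ 0)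
    (h1 : B a b ≠ 1) {u : Vec} (hu : Ctr P u) : ∃ z, Ctr P z ∧ B u z ≠ 0 ∧ B u z ≠ 1 := by
  refine conn_induction hC ht (fun u => ∃ z, Ctr P z ∧ B u z ≠ 0 ∧ B u z ≠ 1) ⟨a, ha, b, hb, h0, h1⟩ ?_ hu
  rintro c d hc hd hcd ⟨z, hz, hz0, hz1⟩
  by_cases hcd1 : B c d = 1
  swap
  · exact ⟨c, hc, by rw [B_comm]; exact hcd, by rw [B_comm]; exact hcd1⟩
  -- `d` is the image of `c` under two transvections
  have hdc : B d c = 1 := by rw [B_comm]; exact hcd1
  have e : ((spTrv c 1 * spTrv d 1 : GL4) : Mat) *ᵥ c = d := by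
    rw [mulVec_mul_GL, spTrv_apply, spTrv_apply, hcd1, map_add, map_smul, LinearMap.add_apply, LinearMap.smul_apply,
      smul_eq_mul, B_self, hdc]
    funext i
    simp only [Pi.add_apply, Pi.smul_apply, smul_eq_mul, one_mul, mul_one, zero_add]
    linear_combination c i * (CharTwo.two_eq_zero (R := F))
  have hg : (spTrv c 1 * spTrv d 1 : GL4) ∈ P := mul_mem hc.2 hd.2
  refine ⟨_, ctr_map hC hg hz, ?_, ?_⟩ <;>
    nth_rw 1 [← e] <;> rw [Symp.mem_spGL_iff.1 (hC.le hg)]
  exacts [hz0, hz1]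

/-- the bad ratios on a hyperbolic line leave one of three points -/
theorem three_points {x y : F} (hxy : ¬ (x = 0 ∧ y = 0)) {p₁ q₁ p₂ q₂ p₃ q₃ : F}
    (d12 : p₁ * q₂ + p₂ * q₁ ≠ 0) (d13 : p₁ * q₃ + p₃ * q₁ ≠ 0) (d23 : p₂ * q₃ + p₃ * q₂ ≠ 0)
    {x' y' : F} (hxy' : ¬ (x' = 0 ∧ y' = 0)) :
    (x * p₁ + y * q₁ ≠ 0 ∧ x' * p₁ + y' * q₁ ≠ 0) ∨ (x * p₂ + y * q₂ ≠ 0 ∧ x' * p₂ + y' * q₂ ≠ 0) ∨
      (x * p₃ + y * q₃ ≠ 0 ∧ x' * p₃ + y' * q₃ ≠ 0) := by
  have key : ∀ {s t a b c d : F}, ¬ (s = 0 ∧ t = 0) → a * d + c * b ≠ 0 → s * a + t * b = 0 → s * c + t * d = 0 →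
      False := by
    intro s t a b c d hst hd e1 e2
    have h2 : (2 : F) = 0 := CharTwo.two_eq_zero
    refine hst ⟨?_, ?_⟩
    · refine (mul_eq_zero.1 (show s * (a * d + c * b) = 0 by
        linear_combination d * e1 + b * e2 - (b * d * t) * h2)).resolve_right hd
    · refine (mul_eq_zero.1 (show t * (a * d + c * b) = 0 by
        linear_combination c * e1 + a * e2 - (a * c * s) * h2)).resolve_right hd
  by_contra h
  push Not at h
  obtain ⟨h1, h2, h3⟩ := h
  by_cases e1 : x * p₁ + y * q₁ = 0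
  · have f2 := h2 fun e => key hxy d12 e1 e
    have f3 := h3 fun e => key hxy d13 e1 e
    exact key hxy' d23 f2 f3
  · have f1 := h1 e1
    by_cases e2 : x * p₂ + y * q₂ = 0
    · have f3 := h3 fun e => key hxy d23 e2 e
      exact key hxy' d13 f1 f3
    · exact key hxy' d12 f1 (h2 e2)

/-- the centres on the line of a big pair, moved by a third centre -/
theorem moved (hC : Core P) {u z x : Vec} (hu : Ctr P u) (hz : Ctr P z) (hx : Ctr P x) {l : F} (hl : B u z = l)
    (l0 : l ≠ 0) (l1 : l ≠ 1) {x₁ y₁ x₂ y₂ : F} (h₁ : ¬ (x₁ = 0 ∧ y₁ = 0)) (h₂ : ¬ (x₂ = 0 ∧ y₂ = 0)) :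
    ∃ p q : F, q ≠ 0 ∧ x₁ * p + y₁ * q ≠ 0 ∧ x₂ * p + y₂ * q ≠ 0 ∧
      Ctr P (p • u + q • z + (p * B u x + q * B z x) • x) := by
  have hzu : B z u = l := by rw [B_comm, hl]
  have c₁ : Ctr P ((0 : F) • u + (1 : F) • z) := by simpa using hz
  have c₂ : Ctr P (l • u + (1 : F) • z) := by
    have := ctr_move hC hu hz
    rw [hzu] at this
    rw [add_comm, one_smul]; exact this
  have c₃ : Ctr P ((1 : F) • u + l • z) := by
    have := ctr_move hC hz hu
    rw [hl] at this
    rw [one_smul]; exact this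
  have hmove : ∀ p q : F, Ctr P (p • u + q • z) → Ctr P (p • u + q • z + (p * B u x + q * B z x) • x) := by
    intro p q hc
    have := ctr_move hC hx hc
    simpa [map_add, map_smul, LinearMap.add_apply, LinearMap.smul_apply, smul_eq_mul] using this
  rcases three_points (p₁ := 0) (q₁ := 1) (p₂ := l) (q₂ := 1) (p₃ := 1) (q₃ := l) h₁
    (by simpa using l0) (by simp) (fun e => l1 (sq_inj (by rw [one_mul]; linear_combination e - CharTwo.two_eq_zero (R := F)))) h₂
    with ⟨a, b⟩ | ⟨a, b⟩ | ⟨a, b⟩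
  exacts [⟨0, 1, one_ne_zero, a, b, hmove _ _ c₁⟩, ⟨l, 1, one_ne_zero, a, b, hmove _ _ c₂⟩,
    ⟨1, l, l0, a, b, hmove _ _ c₃⟩]

theorem sum_ne_zero (hthin : Thin P) {u w : Vec} (hu : Ctr P u) (hw : Ctr P w) (hne : u ≠ w) : u + w ≠ 0 :=
  fun e => indep_of_ne hthin hu hw hne 1 (by
    rw [one_smul]
    funext i
    have := congrFun e i
    simp only [Pi.add_apply, Pi.zero_apply] at this
    linear_combination this - u i * (CharTwo.two_eq_zero (R := F)))

theorem sep_of_equal_aux (hC : Core P) {u w z x : Vec} (hu : Ctr P u) (hz : Ctr P z) (hx : Ctr P x)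
    (huw : B u w = 0) {l : F} (hl : B u z = l) (l0 : l ≠ 0) (l1 : l ≠ 1) (hwz : B w z = l) (hxu : B u x ≠ 0)
    (hxw : B w x = 0) : ∃ z, Ctr P z ∧ B u z ≠ 0 ∧ B w z ≠ 0 ∧ B u z ≠ B w z := by
  have hwu : B w u = 0 := by rw [B_comm]; exact huw
  obtain ⟨p, q, hq, ha, hb, hy⟩ := moved hC hu hz hx hl l0 l1 (x₁ := B u x) (y₁ := B z x)
    (x₂ := B u x * B u x) (y₂ := l + B u x * B z x) (fun e => hxu e.1)
    (fun e => hxu (mul_self_eq_zero.1 e.1))
  refine ⟨_, hy, ?_, ?_, ?_⟩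
  · simp only [map_add, map_smul, smul_eq_mul, B_self, hl, mul_zero, zero_add]
    exact fun e => hb (by linear_combination e)
  · simp only [map_add, map_smul, smul_eq_mul, hwu, hwz, hxw, mul_zero, zero_add, add_zero]
    exact mul_ne_zero hq l0
  · simp only [map_add, map_smul, smul_eq_mul, B_self, hl, hwu, hwz, hxw, mul_zero, zero_add, add_zero]
    refine fun e => mul_ne_zero ?_ hxu (add_eq_left.1 e)
    exact fun e0 => ha (by linear_combination e0)

/-- `u` and `w` orthogonal, `z` with the same big value on both: another centre separates them -/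
theorem sep_of_equal (hthin : Thin P) (hC : Core P) (ht : HasTrv P) {u w z : Vec} (hu : Ctr P u) (hw : Ctr P w)
    (hz : Ctr P z) (huw : B u w = 0) (hne : u ≠ w) {l : F} (hl : B u z = l) (l0 : l ≠ 0) (l1 : l ≠ 1)
    (hwz : B w z = l) : ∃ z, Ctr P z ∧ B u z ≠ 0 ∧ B w z ≠ 0 ∧ B u z ≠ B w z := by
  obtain ⟨x, hx, hsx⟩ := exists_nonorth hC ht (sum_ne_zero hthin hu hw hne)
  rw [map_add, LinearMap.add_apply] at hsx
  have hne' : B u x ≠ B w x := fun e => hsx (by rw [e, CharTwo.add_self_eq_zero])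
  by_cases hu0 : B u x = 0
  · obtain ⟨y, hy, h1, h2, h3⟩ := sep_of_equal_aux hC hw hz hx (by rw [B_comm]; exact huw) hwz l0 l1 hl
      (fun e => hne' (hu0.trans e.symm)) hu0
    exact ⟨y, hy, h2, h1, h3.symm⟩
  by_cases hw0 : B w x = 0
  · exact sep_of_equal_aux hC hu hz hx huw hl l0 l1 hwz hu0 hw0
  exact ⟨x, hx, hu0, hw0, hne'⟩

/-- two orthogonal centres have a common partner with different values -/
theorem separation (hthin : Thin P) (hC : Core P) (ht : HasTrv P) {a b : Vec} (ha : Ctr P a) (hb : Ctr P b)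
    (h0 : B a b ≠ 0) (h1 : B a b ≠ 1) {u w : Vec} (hu : Ctr P u) (hw : Ctr P w) (huw : B u w = 0) (hne : u ≠ w) :
    ∃ z, Ctr P z ∧ B u z ≠ 0 ∧ B w z ≠ 0 ∧ B u z ≠ B w z := by
  obtain ⟨z, hz, l0, l1⟩ := exists_big hC ht ha hb h0 h1 hu
  by_cases hwz : B w z = 0
  swap
  · by_cases he : B u z = B w z
    · exact sep_of_equal hthin hC ht hu hw hz huw hne rfl l0 l1 he.symm
    · exact ⟨z, hz, l0, hwz, he⟩
  obtain ⟨x, hx, hxw, hxu⟩ : ∃ x, Ctr P x ∧ B w x ≠ 0 ∧ B u x ≠ 0 := by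
    by_contra hno
    push Not at hno
    obtain ⟨x₀, hx₀, hwx₀⟩ := exists_nonorth hC ht hw.1
    let W : Submodule F Vec := Submodule.span F {x | Ctr P x ∧ B w x ≠ 0}
    have hW : W = ⊤ := by
      refine (eq_bot_or_top hC ht (W := W) fun v hv x hx => ?_).resolve_left fun e =>
        hx₀.1 ((Submodule.mem_bot F).1 (e ▸ Submodule.subset_span ⟨hx₀, hwx₀⟩))
      by_cases hvw : B w v = 0
      swap
      · exact add_mem hx (W.smul_mem _ (Submodule.subset_span ⟨hv, hvw⟩))
      induction hx using Submodule.span_induction with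
      | mem a ha => exact Submodule.subset_span ⟨ctr_move hC hv ha.1, by simpa [map_add, map_smul, hvw] using ha.2⟩
      | zero => simp
      | add a b _ _ ha hb =>
        rw [map_add, LinearMap.add_apply, add_smul, show a + b + (B a v • v + B b v • v) =
          (a + B a v • v) + (b + B b v • v) by abel]
        exact add_mem ha hb
      | smul c a _ ha =>
        rw [map_smul, LinearMap.smul_apply, smul_assoc, ← smul_add]
        exact W.smul_mem c ha
    refine hu.1 (Symp.nondeg.1 u fun x => ?_)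
    have hx : x ∈ W := hW ▸ Submodule.mem_top
    induction hx using Submodule.span_induction with
    | mem a ha => exact hno a ha.1 ha.2
    | zero => exact map_zero _
    | add a b _ _ ha hb => rw [map_add, ha, hb, add_zero]
    | smul c a _ ha => rw [map_smul, ha, smul_zero]
  by_cases he : B u x = B w x
  swap
  · exact ⟨x, hx, hxu, hxw, he⟩
  by_cases h1' : B u x = 1
  swap
  · exact sep_of_equal hthin hC ht hu hw hx huw hne rfl hxu h1' he.symm
  have hw1 : B w x = 1 := he ▸ h1'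
  have hwu : B w u = 0 := by rw [B_comm]; exact huw
  obtain ⟨p, q, hq, ha', hb', hy⟩ := moved hC hu hz hx rfl l0 l1 (x₁ := 1) (y₁ := B z x)
    (x₂ := 1) (y₂ := B u z + B z x) (fun e => one_ne_zero e.1) (fun e => one_ne_zero e.1)
  refine ⟨_, hy, ?_, ?_, ?_⟩
  · simp only [map_add, map_smul, smul_eq_mul, B_self, h1', mul_zero, zero_add, mul_one]
    exact fun e => hb' (by linear_combination e)
  · simp only [map_add, map_smul, smul_eq_mul, hwu, hwz, h1', hw1, mul_zero, zero_add, mul_one]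
    exact fun e => ha' (by linear_combination e)
  · simp only [map_add, map_smul, smul_eq_mul, B_self, hwu, hwz, h1', hw1, mul_zero, zero_add, mul_one]
    exact fun e => mul_ne_zero hq l0 (add_eq_right.1 e)

end Cfsg.Agent.SpFourEven.Trv
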