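import Mathlib
import Cfsg.Agent.Lib.SpFourEven.Trv.Line
import Cfsg.Agent.Lib.SpFourEven.Trv.Pairs

/-!
# Thin root groups: the centres on a Lagrangian line lie on an affine line

For orthogonal centres `u`, `w` with a partner `z` separating them, the elements of `P` fixing
`b = u + β w` act on the line of `w` and `z` as `SL₂(K)`, and the lift of a diagonal element is unique.
-/

set_option autoImplicit false
set_option linter.unusedSectionVars false

namespace Cfsg.Agent.SpFourEven.Trv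

open Matrix Cfsg.Agent.Aschbacher Cfsg.Agent.Forms.SympStd Cfsg.Agent.Forms.Max
open Cfsg.Agent.Forms.Max.Symp (spTrv_apply B_self mem_spGL_iff)
open Cfsg.Agent.Forms.Max.TwoRoot (B_comm)
open Cfsg.Agent.Classical.GL2 (uniSL lowSL coe_uniSL coe_lowSL)
open scoped MatrixGroups

variable {F : Type*} [Field F] [Fintype F] [CharP F 2] {P : Subgroup (GL (Fin 2 ⊕ Fin 2) F)}

local notation "GL4" => GL (Fin 2 ⊕ Fin 2) F
local notation "Vec" => (Fin 2 ⊕ Fin 2 → F)
local notation "B" => sympB 2 F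
local notation "Mat" => Matrix (Fin 2 ⊕ Fin 2) (Fin 2 ⊕ Fin 2) F

/-- the elements of `P` fixing `b` and acting as `M` on `w`, `v` modulo `b` -/
def AxisAct (P : Subgroup (GL (Fin 2 ⊕ Fin 2) F)) (b w v : Fin 2 ⊕ Fin 2 → F) (M : SL(2, F)) : Prop :=
  ∃ g ∈ P, (g : Matrix (Fin 2 ⊕ Fin 2) (Fin 2 ⊕ Fin 2) F) *ᵥ b = b ∧ ∃ d e : F,
    (g : Matrix (Fin 2 ⊕ Fin 2) (Fin 2 ⊕ Fin 2) F) *ᵥ w =
      (M : Matrix (Fin 2) (Fin 2) F) 0 0 • w + (M : Matrix (Fin 2) (Fin 2) F) 1 0 • v + d • b ∧
    (g : Matrix (Fin 2 ⊕ Fin 2) (Fin 2 ⊕ Fin 2) F) *ᵥ v =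
      (M : Matrix (Fin 2) (Fin 2) F) 0 1 • w + (M : Matrix (Fin 2) (Fin 2) F) 1 1 • v + e • b

noncomputable def axisSub (P : Subgroup (GL (Fin 2 ⊕ Fin 2) F)) (b w v : Fin 2 ⊕ Fin 2 → F) : Subgroup SL(2, F) :=
  ofMulClosed {M | AxisAct P b w v M} ⟨1, one_mem P, one_mulVec b, 0, 0, by simp, by simp⟩
    (fun M M' ⟨g, hg, gb, d, e, gw, gv⟩ ⟨g', hg', gb', d', e', gw', gv'⟩ =>
      ⟨g * g', mul_mem hg hg', by rw [mulVec_mul_GL, gb', gb],
        (M' : Matrix (Fin 2) (Fin 2) F) 0 0 * d + (M' : Matrix (Fin 2) (Fin 2) F) 1 0 * e + d',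
        (M' : Matrix (Fin 2) (Fin 2) F) 0 1 * d + (M' : Matrix (Fin 2) (Fin 2) F) 1 1 * e + e', by
          rw [mulVec_mul_GL, gw', mulVec_add, mulVec_add, mulVec_smul, mulVec_smul, mulVec_smul, gw, gv, gb]
          show _ = ((M : Matrix (Fin 2) (Fin 2) F) * (M' : Matrix (Fin 2) (Fin 2) F)) 0 0 • w +
            ((M : Matrix (Fin 2) (Fin 2) F) * (M' : Matrix (Fin 2) (Fin 2) F)) 1 0 • v + _
          simp only [Matrix.mul_apply, Fin.sum_univ_two]
          module, by
          rw [mulVec_mul_GL, gv', mulVec_add, mulVec_add, mulVec_smul, mulVec_smul, mulVec_smul, gw, gv, gb]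
          show _ = ((M : Matrix (Fin 2) (Fin 2) F) * (M' : Matrix (Fin 2) (Fin 2) F)) 0 1 • w +
            ((M : Matrix (Fin 2) (Fin 2) F) * (M' : Matrix (Fin 2) (Fin 2) F)) 1 1 • v + _
          simp only [Matrix.mul_apply, Fin.sum_univ_two]
          module⟩)

variable (hC : Core P) (hthin : Thin P)
include hC hthin

/-- the data of a separated pair -/
theorem affine_rel {u w z : Vec} (hu : Ctr P u) (hw : Ctr P w) (hz : Ctr P z) (huw : B u w = 0) (hne : u ≠ w)
    (hα : B u z ≠ 0) (hl : B w z ≠ 0) (hd : B u z ≠ B w z) {x y : F}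
    (hs : Ctr P (x • u + y • w)) : x + y = 1 := by
  have h2 : (2 : F) = 0 := CharTwo.two_eq_zero
  set l := B w z with hldef
  set v := l⁻¹ • z with hvdef
  set β := B u z / l with hβdef
  set b := u + β • w with hbdef
  have hβ0 : β ≠ 0 := div_ne_zero hα hl
  have hβ1 : β ≠ 1 := fun e => hd (by rwa [hβdef, div_eq_one_iff_eq hl] at e)
  have hwu : B w u = 0 := by rw [B_comm]; exact huw
  have hwv : B w v = 1 := by rw [hvdef, map_smul, smul_eq_mul, ← hldef, inv_mul_cancel₀ hl]
  have hvw : B v w = 1 := by rw [B_comm]; exact hwv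
  have hbw : B b w = 0 := by simp [hbdef, huw, B_self]
  have hwb : B w b = 0 := by rw [B_comm]; exact hbw
  have huv : B u v = β := by
    rw [hvdef, map_smul, smul_eq_mul, hβdef, inv_mul_eq_div]
  have hbv : B b v = 0 := by
    simp only [hbdef, map_add, map_smul, LinearMap.add_apply, LinearMap.smul_apply, smul_eq_mul, huv, hwv, mul_one]
    exact CharTwo.add_self_eq_zero _
  have hvb : B v b = 0 := by rw [B_comm]; exact hbv
  have hb0 : b ≠ 0 := fun e => indep_of_ne hthin hw hu (Ne.symm hne) β (by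
    rw [hbdef] at e
    funext i
    have := congrFun e i
    simp only [Pi.add_apply, Pi.zero_apply, Pi.smul_apply, smul_eq_mul] at this ⊢
    linear_combination this - β * w i * h2)
  have hub : u = β • w + b := by
    rw [hbdef]; funext i
    simp only [Pi.add_apply, Pi.smul_apply, smul_eq_mul]
    linear_combination -(β * w i) * h2
  have hzv : z = l • v := by rw [hvdef, smul_smul, mul_inv_cancel₀ hl, one_smul]
  have hindep : ∀ c d : F, c • w + d • b = 0 → c = 0 ∧ d = 0 := fun c d e => by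
    have h1 := congrArg (fun x => B x v) e
    simp only [map_add, map_smul, map_zero, LinearMap.add_apply, LinearMap.smul_apply, LinearMap.zero_apply,
      smul_eq_mul, hwv, hbv, mul_zero, add_zero, mul_one] at h1
    rw [h1, zero_smul, zero_add] at e
    exact ⟨h1, (smul_eq_zero.1 e).resolve_right hb0⟩
  have hbase : ∀ g, g ∈ P → ∀ p q : F, (g : Mat) *ᵥ b = b → Ctr P (p • w + q • b) →
      Ctr P (p • (g : Mat) *ᵥ w + q • b) := fun g hg p q gb h => by
    have := ctr_map hC hg h
    rwa [mulVec_add, mulVec_smul, mulVec_smul, gb] at this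
  -- the three transvections
  have hu1 : uniSL (1 : F) ∈ axisSub P b w v := ⟨_, hw.2, by simp [spTrv_apply, hbw], 0, 0,
    by rw [coe_uniSL, spTrv_apply, B_self]; simp,
    by rw [coe_uniSL, spTrv_apply, hvw]; simp [add_comm]⟩
  have hua : uniSL (β * β) ∈ axisSub P b w v := ⟨_, hu.2,
    by rw [spTrv_apply, show B b u = 0 by rw [hub, map_add, map_smul, hbw, B_self, smul_zero, add_zero]]; simp,
    0, β,
    by rw [coe_uniSL, spTrv_apply, hwu]; simp,
    by
      rw [coe_uniSL, spTrv_apply, B_comm u v, huv, hub]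
      simp only [Matrix.of_apply, Matrix.cons_val', Matrix.cons_val_zero, Matrix.cons_val_one, Matrix.empty_val',
        Matrix.cons_val_fin_one]
      module⟩
  have hll : lowSL (l * l) ∈ axisSub P b w v := ⟨_, hz.2,
    by rw [spTrv_apply, hzv, map_smul, hbv]; simp, 0, 0,
    by rw [coe_lowSL, spTrv_apply, ← hldef, hzv]; simp [smul_smul],
    by rw [coe_lowSL, spTrv_apply, hzv, map_smul, B_self]; simp⟩
  obtain ⟨K, hlK, haK, hU, hL⟩ := PSLThree.Even.Plane.classify (S := axisSub P b w v)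
    (mul_ne_zero hβ0 hβ0) (fun e => hβ1 (sq_inj (by rw [e, one_mul]))) (mul_ne_zero hl hl) hu1 hua hll
  have hsqK : ∀ c : F, c * c ∈ K → c ∈ K := fun c hc => by
    obtain ⟨r, hr⟩ := FiniteField.isSquare_of_char_two (F := K)
      (ringChar.eq_iff.2 ((K.subtype.charP_iff_charP 2).2 inferInstance)) (⟨c * c, hc⟩ : K)
    have : c = (r : F) := sq_inj (congrArg Subtype.val hr)
    rw [this]; exact r.2
  -- lifts of the diagonal
  have hdiag : ∀ k ∈ K, k ≠ 0 → ∃ g ∈ P, (g : Mat) *ᵥ b = b ∧ ∃ d e : F,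
      (g : Mat) *ᵥ w = k • w + d • b ∧ (g : Mat) *ᵥ v = k⁻¹ • v + e • b := by
    intro k hk hk0
    obtain ⟨g, hg, gb, d, e, gw, gv⟩ : uniSL k * lowSL k⁻¹ * uniSL k * (uniSL 1 * lowSL 1 * uniSL 1) ∈
        axisSub P b w v :=
      mul_mem (mul_mem (mul_mem ((hU k).2 hk) ((hL _).2 (inv_mem hk))) ((hU k).2 hk))
        (mul_mem (mul_mem ((hU 1).2 (one_mem K)) ((hL 1).2 (one_mem K))) ((hU 1).2 (one_mem K)))
    have hM : ((uniSL k * lowSL k⁻¹ * uniSL k * (uniSL 1 * lowSL 1 * uniSL 1) : SL(2, F)) :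
        Matrix (Fin 2) (Fin 2) F) = !![k, 0; 0, k⁻¹] := by
      simp only [Matrix.SpecialLinearGroup.coe_mul, coe_uniSL, coe_lowSL, Matrix.mul_fin_two]
      simp [CharTwo.add_self_eq_zero, mul_inv_cancel₀ hk0, inv_mul_cancel₀ hk0]
    rw [hM] at gw gv
    exact ⟨g, hg, gb, d, e, by simpa using gw, by simpa using gv⟩
  -- the kernel on the line is trivial
  have hker : ∀ g ∈ P, (g : Mat) *ᵥ b = b → ∀ d e : F, (g : Mat) *ᵥ w = w + d • b → (g : Mat) *ᵥ v = v + e • b →
      d = 0 ∧ e = 0 := by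
    have hker0 : ∀ g ∈ P, (g : Mat) *ᵥ b = b → ∀ d : F, (g : Mat) *ᵥ w = w + d • b → d = 0 := by
      intro g hg gb d gw
      by_contra hd0
      -- all non-zero multiples of `d` by `K` occur
      have hscale : ∀ k ∈ K, k ≠ 0 → ∃ g' ∈ P, (g' : Mat) *ᵥ b = b ∧ (g' : Mat) *ᵥ w = w + (d / k) • b := by
        intro k hk hk0
        obtain ⟨h, hh, hb', d', e', hw', -⟩ := hdiag k hk hk0
        have hib : ((h⁻¹ : GL4) : Mat) *ᵥ b = b := by
          nth_rw 1 [← hb']; rw [inv_mulVec_cancel]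
        have hiw : ((h⁻¹ : GL4) : Mat) *ᵥ w = k⁻¹ • w + (k⁻¹ * d') • b := by
          have h1 : (h : Mat) *ᵥ (k⁻¹ • w + (k⁻¹ * d') • b) = w := by
            rw [mulVec_add, mulVec_smul, mulVec_smul, hb', hw']
            funext i
            simp only [Pi.add_apply, Pi.smul_apply, smul_eq_mul]
            field_simp
            linear_combination d' * b i * h2
          nth_rw 1 [← h1]
          rw [inv_mulVec_cancel]
        refine ⟨h * g * h⁻¹, mul_mem (mul_mem hh hg) (inv_mem hh), ?_, ?_⟩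
        · rw [mulVec_mul_GL, mulVec_mul_GL, hib, gb, hb']
        · rw [mulVec_mul_GL, mulVec_mul_GL, hiw]
          simp only [mulVec_add, mulVec_smul, gb, gw, hb', hw']
          funext i
          simp only [Pi.add_apply, Pi.smul_apply, smul_eq_mul]
          field_simp
          linear_combination d' * b i * h2
      -- the products of a transvection with its images
      have hel : ∀ k ∈ K, k ≠ 0 → ∀ g' ∈ P, (g' : Mat) *ᵥ b = b → ∀ c : F, (g' : Mat) *ᵥ w = w + c • b →
          TwoRoot.el b (((k * c) * k) • w) ((k * c) * (k * c)) ∈ P := by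
        intro k hk hk0 g' hg' gb' c gw'
        obtain ⟨h, hh, hb', d', e', hw', -⟩ := hdiag k hk hk0
        have hs1 : Ctr P (k • w + d' • b) := hw' ▸ ctr_map hC hh hw
        have hs2 : Ctr P (k • (w + c • b) + d' • b) := gw' ▸ hbase g' hg' k d' gb' hs1
        have e : TwoRoot.el b (((k * c) * k) • w) ((k * c) * (k * c)) =
            spTrv (k • w + d' • b) 1 * spTrv (k • (w + c • b) + d' • b) 1 := gl_ext fun x => by
          rw [TwoRoot.el_apply (by rw [map_smul, hbw, smul_zero]), mulVec_mul_GL, spTrv_apply, spTrv_apply]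
          simp only [map_add, map_smul, LinearMap.add_apply, LinearMap.smul_apply, smul_eq_mul, B_self, hbw, hwb,
            mul_zero, add_zero, one_mul]
          funext i
          simp only [Pi.add_apply, Pi.smul_apply, smul_eq_mul]
          linear_combination (-(k * B x w + d' * B x b) * (k * w i + d' * b i) - (k * c * B x b * d' * b i)) * h2
        exact e ▸ mul_mem hs1.2 hs2.2
      have htr : ∀ j ∈ K, j ≠ 0 → spTrv b (d * d * (1 + (j * j)⁻¹)) ∈ P := by
        intro j hj hj0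
        obtain ⟨g', hg', gb', gw'⟩ := hscale (j * j) (mul_mem hj hj) (mul_ne_zero hj0 hj0)
        have h3 := hel j hj hj0 g' hg' gb' _ gw'
        have h4 := hel 1 (one_mem K) one_ne_zero g hg gb d gw
        rw [show j * (d / (j * j)) * j = d by field_simp,
          show j * (d / (j * j)) * (j * (d / (j * j))) = d * d * (j * j)⁻¹ by field_simp] at h3
        rw [one_mul, mul_one] at h4
        have h5 := mul_mem h4 h3
        rw [TwoRoot.el_mul (by rw [map_smul, hbw, smul_zero]) (by rw [map_smul, hbw, smul_zero]), B_self, add_zero,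
          show d • w + d • w = (0 : Vec) from funext fun i => CharTwo.add_self_eq_zero _, TwoRoot.el_zero] at h5
        rwa [mul_add, mul_one]
      have hsr : ∀ c ∈ K, c ≠ 0 → c ≠ 1 → spTrv b (d * d * c) ∈ P := fun c hc _ hc1 => by
        obtain ⟨r, hr⟩ := exists_sqrt (1 + c)⁻¹
        have hc1' : 1 + c ≠ 0 := fun e => hc1 (CharTwo.add_eq_zero.1 e).symm
        have := htr r (hsqK r (by rw [hr]; exact inv_mem (add_mem (one_mem K) hc)))
          (fun e => inv_ne_zero hc1' (by rw [← hr, e, zero_mul]))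
        rwa [hr, inv_inv, show (1 : F) + (1 + c) = c by linear_combination h2] at this
      have a0 : β * β ≠ 0 := mul_ne_zero hβ0 hβ0
      have a1 : β * β ≠ 1 := fun e => hβ1 (sq_inj (by rw [e, one_mul]))
      obtain ⟨r, -, hr, hrb⟩ := ctr_of_mem hb0 (mul_ne_zero (mul_ne_zero hd0 hd0) a0) (hsr _ haK a0 a1)
      have hb2 := hsr (β * β + 1) (add_mem haK (one_mem K))
        (fun e => a1 (CharTwo.add_eq_zero.1 e)) (fun e => a0 (by linear_combination e))
      rw [show spTrv b (d * d * (β * β + 1)) = spTrv (r • b) ((β * β + 1) / (β * β)) by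
        rw [spTrv_smul]; congr 1; field_simp; linear_combination (-(β * β + 1)) * hr] at hb2
      rcases hthin _ _ hrb hb2 with e | e
      · exact div_ne_zero (fun e => a1 (CharTwo.add_eq_zero.1 e)) a0 e
      · rw [div_eq_one_iff_eq a0] at e
        exact one_ne_zero (by linear_combination e)
    intro g hg gb d e gw gv
    have hd0 := hker0 g hg gb d gw
    refine ⟨hd0, ?_⟩
    subst hd0
    rw [zero_smul, add_zero] at gw
    have htb : (spTrv z 1 : Mat) *ᵥ b = b := by rw [spTrv_apply, hzv, map_smul, hbv]; simp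
    have htw : (spTrv z 1 : Mat) *ᵥ w = w + (l * l) • v := by
      rw [spTrv_apply, one_mul, ← hldef, hzv, smul_smul]
    have htv : (spTrv z 1 : Mat) *ᵥ v = v := by rw [spTrv_apply, hzv, map_smul, B_self]; simp
    have := hker0 (spTrv z 1 * g * spTrv z 1) (mul_mem (mul_mem hz.2 hg) hz.2)
      (by rw [mulVec_mul_GL, mulVec_mul_GL, htb, gb, htb]) (l * l * e) (by
        rw [mulVec_mul_GL, mulVec_mul_GL, htw]
        simp only [mulVec_add, mulVec_smul, gw, gv, htw, htv, htb]
        funext i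
        simp only [Pi.add_apply, Pi.smul_apply, smul_eq_mul]
        linear_combination (l * l * v i) * h2)
    exact (mul_eq_zero.1 this).resolve_left (mul_ne_zero hl hl)
  -- a centre over a diagonal lift agrees with it
  have huniq : ∀ y' x' : F, y' ≠ 0 → Ctr P (y' • w + x' • b) → y' ∈ K ∧
      ∀ h ∈ P, (h : Mat) *ᵥ b = b → ∀ d : F, (h : Mat) *ᵥ w = y' • w + d • b → x' = d := by
    intro y' x' hy' hs
    have hfix : ∀ q : F, (spTrv (y' • w + q • b) 1 : Mat) *ᵥ b = b ∧
        (spTrv (y' • w + q • b) 1 : Mat) *ᵥ w = w ∧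
        (spTrv (y' • w + q • b) 1 : Mat) *ᵥ v = v + (y' * y') • w + (y' * q) • b := fun q => by
      refine ⟨?_, ?_, ?_⟩ <;> rw [spTrv_apply] <;> simp [hbw, hwb, hvb, hvw, B_self, smul_smul, add_assoc]
    refine ⟨hsqK y' ((hU _).1 ⟨_, hs.2, (hfix x').1, 0, y' * x', ?_, ?_⟩), fun h hh hb' d hw' => ?_⟩
    · rw [coe_uniSL, (hfix x').2.1]; simp
    · rw [coe_uniSL, (hfix x').2.2]; simp [add_comm v]
    have hs' : Ctr P (y' • w + d • b) := hw' ▸ ctr_map hC hh hw
    obtain ⟨-, h1⟩ := hker (spTrv (y' • w + x' • b) 1 * spTrv (y' • w + d • b) 1) (mul_mem hs.2 hs'.2)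
      (by rw [mulVec_mul_GL, (hfix d).1, (hfix x').1]) 0 (y' * x' + y' * d)
      (by rw [mulVec_mul_GL, (hfix d).2.1, (hfix x').2.1]; simp)
      (by
        rw [mulVec_mul_GL, (hfix d).2.2]
        simp only [mulVec_add, mulVec_smul, (hfix x').1, (hfix x').2.1, (hfix x').2.2]
        funext i
        simp only [Pi.add_apply, Pi.smul_apply, smul_eq_mul]
        linear_combination (y' * y' * w i) * h2)
    refine mul_left_cancel₀ hy' (CharTwo.add_eq_zero.1 ?_)
    exact h1
  -- the lift of `k` has `b`-part `(k + 1) / (β + 1)`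
  have hβK : β ∈ K := hsqK β haK
  have hb1 : β + 1 ≠ 0 := fun e => hβ1 (CharTwo.add_eq_zero.1 e)
  have hval : ∀ k ∈ K, k ≠ 0 → ∀ h ∈ P, (h : Mat) *ᵥ b = b → ∀ d : F, (h : Mat) *ᵥ w = k • w + d • b →
      d * (β + 1) = k + 1 := by
    intro k hk hk0 h hh hb' d hw'
    obtain ⟨m, hm, hmb, δ, -, hmw, -⟩ := hdiag β hβK hβ0
    have hδ : δ = 1 := ((huniq β 1 hβ0 (by rw [one_smul, ← hub]; exact hu)).2 m hm hmb δ hmw).symm
    subst hδ
    rw [one_smul] at hmw
    have e1 : ((h * m : GL4) : Mat) *ᵥ w = (β * k) • w + (β * d + 1) • b := by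
      rw [mulVec_mul_GL, hmw, mulVec_add, mulVec_smul, hb', hw']
      module
    have e2 : ((m * h : GL4) : Mat) *ᵥ w = (β * k) • w + (k + d) • b := by
      rw [mulVec_mul_GL, hw', mulVec_add, mulVec_smul, mulVec_smul, hmb, hmw]
      module
    have hc1 : Ctr P ((β * k) • w + (β * d + 1) • b) := e1 ▸ ctr_map hC (mul_mem hh hm) hw
    have := (huniq _ _ (mul_ne_zero hβ0 hk0) hc1).2 (m * h) (mul_mem hm hh)
      (by rw [mulVec_mul_GL, hb', hmb]) _ e2
    linear_combination this + (d - 1) * h2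
  -- conclusion
  set y' := x * β + y with hy'def
  have hs' : x • u + y • w = y' • w + x • b := by rw [hy'def, hub]; module
  rw [hs'] at hs
  by_cases hy0 : y' = 0
  swap
  · obtain ⟨hyK, huq⟩ := huniq y' x hy0 hs
    obtain ⟨h, hh, hb', d, e, hw', -⟩ := hdiag y' hyK hy0
    have := hval y' hyK hy0 h hh hb' d hw'
    rw [← huq h hh hb' d hw'] at this
    rw [hy'def] at this
    linear_combination this + y * h2
  rw [hy0, zero_smul, zero_add] at hs
  -- the transvection at `b`
  obtain ⟨h, hh, hb', d, e, hw', -⟩ := hdiag (β + 1) (add_mem hβK (one_mem K)) hb1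
  have hd : d * (β + 1) = β := by
    rw [hval _ (add_mem hβK (one_mem K)) hb1 h hh hb' d hw', add_assoc, CharTwo.add_self_eq_zero, add_zero]
  have hs0 : Ctr P ((β + 1) • w + d • b) := hw' ▸ ctr_map hC hh hw
  have hprod : spTrv w 1 * spTrv u 1 * spTrv ((β + 1) • w + d • b) 1 = spTrv b (1 + d * d) := gl_ext fun t => by
    rw [mulVec_mul_GL, mulVec_mul_GL, hub]
    simp only [spTrv_apply, map_add, map_smul, LinearMap.add_apply, LinearMap.smul_apply, smul_eq_mul, B_self, hbw,
      hwb, mul_zero, add_zero, one_mul]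
    funext i
    simp only [Pi.add_apply, Pi.smul_apply, smul_eq_mul]
    linear_combination (B t w * b i + B t b * w i) * hd +
      ((β * β + β + 1) * B t w * w i + β * (B t w * b i + B t b * w i)) * h2
  obtain ⟨r, hr0, hr, hrb⟩ := ctr_of_mem hb0 (c := 1 + d * d)
    (fun e => by
      have : d = 1 := sq_inj (by rw [one_mul]; linear_combination e - h2)
      subst this
      exact one_ne_zero (show (1 : F) = 0 by linear_combination hd))
    (hprod ▸ mul_mem (mul_mem hw.2 hu.2) hs0.2)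
  have hxr : x / r = 1 := smul_eq_self hthin hrb (by rw [smul_smul, div_mul_cancel₀ _ hr0]; exact hs)
  rw [div_eq_one_iff_eq hr0] at hxr
  have hr' : r * (β + 1) = 1 := sq_inj (by
    rw [one_mul]
    linear_combination (β + 1) * (β + 1) * hr + (d * (β + 1) + β) * hd + (β * β + β) * h2)
  rw [hy'def] at hy0
  linear_combination hy0 + hr' + (β + 1) * hxr - (x * β) * h2

end Cfsg.Agent.SpFourEven.Trv
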