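import Mathlib
import Cfsg.Agent.Lib.SpFourEven.Trv.Affine
import Cfsg.Agent.Lib.Involutions.ThompsonTransfer
import Cfsg.Agent.S0215

/-!
# Thin root groups with a value outside the prime field: a transfer contradiction
-/

set_option autoImplicit false
set_option linter.unusedSectionVars false
set_option linter.style.haveILetI false

namespace Cfsg.Agent.SpFourEven.Trv

open Matrix Cfsg.Agent.Aschbacher Cfsg.Agent.Forms.SympStd Cfsg.Agent.Forms.Max
open Cfsg.Agent.Forms.Max.Symp (spTrv_apply B_self mem_spGL_iff)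
open Cfsg.Agent.Forms.Max.TwoRoot (B_comm)

variable {F : Type*} [Field F] [Fintype F] [CharP F 2] {P : Subgroup (GL (Fin 2 ⊕ Fin 2) F)}

local notation "GL4" => GL (Fin 2 ⊕ Fin 2) F
local notation "Vec" => (Fin 2 ⊕ Fin 2 → F)
local notation "B" => sympB 2 F
local notation "Mat" => Matrix (Fin 2 ⊕ Fin 2) (Fin 2 ⊕ Fin 2) F

theorem zmod_two_cases : ∀ z : ZMod 2, z = 0 ∨ z = 1 := by decide

/-- two transvections of a two-group have orthogonal vectors -/
theorem orth_of_pow {u w : Vec} {k : ℕ} (h : (spTrv u (1 : F) * spTrv w 1) ^ (2 ^ k) = 1) : B u w = 0 := by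
  haveI : Fact (Nat.Prime 2) := ⟨Nat.prime_two⟩
  by_contra hl
  set l := B u w with hldef
  have hwu : B w u = l := by rw [B_comm]
  set g : GL4 := spTrv u (1 : F) * spTrv w 1
  have hz : ((g : Mat) - 1) ^ (2 ^ k) = 0 := by
    rw [sub_pow_char_pow_of_commute (p := 2) (h := Commute.one_right _), one_pow, ← Units.val_pow_eq_pow_val, h,
      Units.val_one, sub_self]
  have key : ∀ n : ℕ, ∃ a c : F, ¬ (a = 0 ∧ c = 0) ∧ ((g : Mat) - 1) ^ n *ᵥ u = a • u + c • w := by
    intro n
    induction n with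
    | zero => exact ⟨1, 0, fun e => one_ne_zero e.1, by simp⟩
    | succ n ih =>
      obtain ⟨a, c, hne, e⟩ := ih
      refine ⟨c * l + a * (l * l), a * l, ?_, ?_⟩
      · rintro ⟨e1, e2⟩
        rcases mul_eq_zero.1 e2 with rfl | h0
        · exact hne ⟨rfl, by simpa [hl] using e1⟩
        · exact hl h0
      · rw [pow_succ', ← mulVec_mulVec, e, sub_mulVec, one_mulVec, mulVec_mul_GL, spTrv_apply, spTrv_apply]
        simp only [map_add, map_smul, LinearMap.add_apply, LinearMap.smul_apply, smul_eq_mul, B_self, ← hldef, hwu]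
        module
  obtain ⟨a, c, hne, e⟩ := key (2 ^ k)
  rw [hz, zero_mulVec] at e
  have e1 := congrArg (fun x => B x u) e.symm
  have e2 := congrArg (fun x => B x w) e.symm
  simp only [map_add, map_smul, map_zero, LinearMap.add_apply, LinearMap.smul_apply, LinearMap.zero_apply,
    smul_eq_mul, B_self, ← hldef, hwu, mul_zero, zero_add, add_zero, mul_eq_zero, hl, or_false] at e1 e2
  exact hne ⟨e2, e1⟩

/-- what is orthogonal to two independent orthogonal vectors lies in their span -/
theorem mem_plane {u w : Vec} (hu : u ≠ 0) (hind : ∀ t : F, w ≠ t • u) (huw : B u w = 0) {s : Vec}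
    (hsu : B s u = 0) (hsw : B s w = 0) : ∃ x y : F, s = x • u + y • w := by
  let L := Submodule.span F ({u, w} : Set Vec)
  have hL : Module.finrank F L = 2 := by
    have hli : LinearIndependent F ![u, w] := (LinearIndependent.pair_iff' hu).2 fun a e => hind a e.symm
    have := finrank_span_eq_card hli
    rwa [Matrix.range_cons, Matrix.range_cons, Matrix.range_empty, Set.union_empty, Set.singleton_union] at this
  have hle : L ≤ (B).orthogonal L := by
    refine Submodule.span_le.2 ?_
    rintro x hx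
    simp only [SetLike.mem_coe, LinearMap.BilinForm.mem_orthogonal_iff]
    intro n hn
    obtain ⟨a, c, rfl⟩ := Submodule.mem_span_pair.1 hn
    rcases hx with h | h <;> rw [h] <;> simp [B_self, huw, B_comm u w]
  have horth : Module.finrank F ((B).orthogonal L) = 2 := by
    rw [LinearMap.BilinForm.finrank_orthogonal Symp.nondeg, hL, finrank_vec]
  have hs : s ∈ (B).orthogonal L := by
    rw [LinearMap.BilinForm.mem_orthogonal_iff]
    intro n hn
    obtain ⟨a, c, rfl⟩ := Submodule.mem_span_pair.1 hn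
    simp [B_comm s u, B_comm s w, hsu, hsw]
  rw [← Submodule.eq_of_le_of_finrank_eq hle (by rw [hL, horth])] at hs
  obtain ⟨x, y, e⟩ := Submodule.mem_span_pair.1 hs
  exact ⟨x, y, e.symm⟩

theorem no_index_two (hC : Core P) : ∀ H : Subgroup P, H.index ≠ 2 := fun H hH => by
  haveI := hC.simple
  rcases (Subgroup.normal_of_index_eq_two hH).eq_bot_or_eq_top with e | e
  · rw [e, Subgroup.index_bot] at hH
    haveI : IsCyclic P := isCyclic_of_prime_card (p := 2) (hp := ⟨Nat.prime_two⟩) hH
    haveI : Nontrivial P := IsSimpleGroup.toNontrivial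
    obtain ⟨a, ha⟩ := exists_ne (1 : P)
    refine ha (Subtype.ext ?_)
    have hb : ⁅P, P⁆ ≤ ⊥ := Subgroup.commutator_le.2 fun x hx y hy => by
      have := congrArg Subtype.val (mul_comm' (⟨x, hx⟩ : P) ⟨y, hy⟩)
      rw [Subgroup.mem_bot, commutatorElement_eq_one_iff_mul_comm]
      exact this
    rw [hC.perfect] at hb
    exact Subgroup.mem_bot.1 (hb a.2)
  · rw [e, Subgroup.index_top] at hH
    omega

/-- thin root groups and a value outside the prime field are incompatible -/
theorem thin_false (hC : Core P) (ht : HasTrv P) (hthin : Thin P) {a b : Vec} (ha : Ctr P a) (hb : Ctr P b)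
    (h0 : B a b ≠ 0) (h1 : B a b ≠ 1) : False := by
  classical
  haveI : Fact (Nat.Prime 2) := ⟨Nat.prime_two⟩
  haveI := hC.simple
  haveI : Finite P := inferInstance
  -- a Sylow subgroup through the transvection
  let t : P := ⟨spTrv a 1, ha.2⟩
  have ht2 : t * t = 1 := Subtype.ext (spTrv_mul_self a 1)
  have ht1 : t ≠ 1 := fun e => spTrv_ne_one ha.1 one_ne_zero (congrArg Subtype.val e)
  have hot : orderOf t = 2 := orderOf_eq_prime (by rw [pow_two, ht2]) ht1
  obtain ⟨S, hS⟩ := (IsPGroup.of_card (n := 1) (by rw [Nat.card_zpowers, hot, pow_one]) :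
    IsPGroup 2 (Subgroup.zpowers t)).exists_le_sylow
  have htS : t ∈ (S : Subgroup P) := hS (Subgroup.mem_zpowers t)
  have horth : ∀ u w (hu : Ctr P u) (hw : Ctr P w), (⟨_, hu.2⟩ : P) ∈ (S : Subgroup P) →
      (⟨_, hw.2⟩ : P) ∈ (S : Subgroup P) → B u w = 0 := fun u w hu hw h h' => by
    obtain ⟨k, hk⟩ := S.2 (⟨_, mul_mem h h'⟩ : (S : Subgroup P))
    refine orth_of_pow (k := k) ?_
    exact congrArg (fun x : (S : Subgroup P) => ((x : P) : GL4)) hk
  have hconj : ∀ (g : P) (u : Vec) (hu : Ctr P u),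
      g * ⟨_, hu.2⟩ * g⁻¹ = (⟨_, (ctr_map hC g.2 hu).2⟩ : P) := fun g u hu =>
    Subtype.ext (spTrv_conj (hC.le g.2) u 1)
  by_cases hiso : ∀ w (hw : Ctr P w), (⟨_, hw.2⟩ : P) ∈ (S : Subgroup P) → w = a
  · obtain ⟨N, hNn, hNodd, hN⟩ := Cfsg.Agent.S0215.result S t hot htS fun g hg => by
      rw [hconj g a ha] at hg ⊢
      have := hiso _ (ctr_map hC g.2 ha) hg
      exact Subtype.ext (congrArg (fun v => spTrv v (1 : F)) this)
    rcases hNn.eq_bot_or_eq_top with e | e
    · have hcen : t ∈ Subgroup.center P := Subgroup.mem_center_iff.2 fun g => by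
        have := hN g
        rw [e, Subgroup.mem_bot, mul_inv_eq_one, mul_inv_eq_iff_eq_mul] at this
        exact this.symm
      rcases (inferInstance : (Subgroup.center P).Normal).eq_bot_or_eq_top with e' | e'
      · rw [e', Subgroup.mem_bot] at hcen
        exact ht1 hcen
      · have hb : ⁅P, P⁆ ≤ ⊥ := Subgroup.commutator_le.2 fun x hx y hy => by
          have hy' : (⟨y, hy⟩ : P) ∈ Subgroup.center P := e' ▸ Subgroup.mem_top _
          have := congrArg Subtype.val (Subgroup.mem_center_iff.1 hy' ⟨x, hx⟩)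
          rw [Subgroup.mem_bot, commutatorElement_eq_one_iff_mul_comm]
          exact this
        rw [hC.perfect] at hb
        exact ht1 (Subtype.ext (Subgroup.mem_bot.1 (hb t.2)))
    · rw [e, Subgroup.card_top] at hNodd
      exact (Nat.not_even_iff_odd.2 hNodd) (even_iff_two_dvd.2 (by
        have h := orderOf_dvd_natCard t
        rwa [hot] at h))
  push Not at hiso
  obtain ⟨w, hw, hwS, hwa⟩ := hiso
  have haw : B a w = 0 := horth a w ha hw htS hwS
  obtain ⟨z, hz, hza, hzw, hzne⟩ := separation hthin hC ht ha hb h0 h1 ha hw haw hwa.symm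
  -- the functional equal to one on the centres in `S`
  obtain ⟨r, hra, hrw⟩ : ∃ r, B a r = 1 ∧ B w r = 1 := by
    set q := (B a z)⁻¹ • z with hq
    have hq1 : B a q = 1 := by rw [hq, map_smul, smul_eq_mul, inv_mul_cancel₀ hza]
    clear_value q
    clear hq
    have hind : ∀ t : F, w ≠ t • a := indep_of_ne hthin ha hw hwa.symm
    obtain ⟨x, hxa, hxw⟩ : ∃ x, B a x = 0 ∧ B w x ≠ 0 := by
      by_contra hno
      push Not at hno
      refine hind (B w q) (sub_eq_zero.1 (Symp.nondeg.1 _ fun y => ?_))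
      have h3 := hno (y + B a y • q) (by
        rw [map_add, map_smul, hq1, smul_eq_mul, mul_one]; exact CharTwo.add_self_eq_zero _)
      simp only [map_add, map_smul, smul_eq_mul] at h3
      simp only [map_sub, map_smul, LinearMap.sub_apply, LinearMap.smul_apply, smul_eq_mul]
      linear_combination h3 - B a y * B w q * (CharTwo.two_eq_zero (R := F))
    exact ⟨q + ((1 + B w q) / B w x) • x, by rw [map_add, map_smul, hq1, hxa, smul_zero, add_zero], by
      rw [map_add, map_smul, smul_eq_mul, div_mul_cancel₀ _ hxw, add_comm 1, ← add_assoc, CharTwo.add_self_eq_zero,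
        zero_add]⟩
  have hone : ∀ s (hs : Ctr P s), (⟨_, hs.2⟩ : P) ∈ (S : Subgroup P) → B s r = 1 := fun s hs hsS => by
    obtain ⟨x, y, rfl⟩ := mem_plane ha.1 (indep_of_ne hthin ha hw hwa.symm) haw
      (horth _ _ hs ha hsS htS) (horth _ _ hs hw hsS hwS)
    rw [map_add, map_smul, map_smul, LinearMap.add_apply, LinearMap.smul_apply, LinearMap.smul_apply, hra, hrw,
      smul_eq_mul, smul_eq_mul, mul_one, mul_one]
    exact affine_rel hC hthin ha hw hz haw hwa.symm hza hzw hzne hs
  -- the homomorphism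
  have hplane : ∀ g : P, g ∈ (S : Subgroup P) → ∀ u, Ctr P u → (∀ h : Ctr P u, (⟨_, h.2⟩ : P) ∈ (S : Subgroup P)) →
      B u (((g⁻¹ : P) : GL4).1 *ᵥ r) = 1 := fun g hg u hu huS => by
    have hm : (⟨_, (ctr_map hC g.2 hu).2⟩ : P) ∈ (S : Subgroup P) := by
      rw [← hconj g u hu]; exact mul_mem (mul_mem hg (huS hu)) (inv_mem hg)
    rw [← hone _ (ctr_map hC g.2 hu) hm]
    conv_rhs => rw [← mem_spGL_iff.1 (hC.le (g⁻¹).2)]
    congr 2
    rw [mulVec_mulVec, ← Units.val_mul, InvMemClass.coe_inv, inv_mul_cancel, Units.val_one, one_mulVec]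
  have hadd : ∀ g h : P, g ∈ (S : Subgroup P) → h ∈ (S : Subgroup P) →
      B (((g * h : P) : GL4).1 *ᵥ r) r = B ((g : GL4).1 *ᵥ r) r + B ((h : GL4).1 *ᵥ r) r := by
    intro g h hg hh
    set l := (h : GL4).1 *ᵥ r + r with hl
    have hla : B l a = 0 ∧ B l w = 0 := by
      have e1 := hplane h⁻¹ (inv_mem hh) a ha fun _ => htS
      have e2 := hplane h⁻¹ (inv_mem hh) w hw fun _ => hwS
      rw [inv_inv] at e1 e2
      constructor <;> rw [B_comm, hl, map_add]
      · rw [e1, hra]; exact CharTwo.add_self_eq_zero _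
      · rw [e2, hrw]; exact CharTwo.add_self_eq_zero _
    obtain ⟨x, y, hxy⟩ := mem_plane ha.1 (indep_of_ne hthin ha hw hwa.symm) haw hla.1 hla.2
    have hhr : (h : GL4).1 *ᵥ r = r + (x • a + y • w) := by
      rw [← hxy, hl]
      funext i
      simp only [Pi.add_apply]
      linear_combination -(r i) * (CharTwo.two_eq_zero (R := F))
    have hga : B ((g : GL4).1 *ᵥ a) r = 1 := hone _ (ctr_map hC g.2 ha) (by rw [← hconj g a ha]; exact mul_mem (mul_mem hg htS) (inv_mem hg))
    have hgw : B ((g : GL4).1 *ᵥ w) r = 1 := hone _ (ctr_map hC g.2 hw) (by rw [← hconj g w hw]; exact mul_mem (mul_mem hg hwS) (inv_mem hg))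
    rw [Subgroup.coe_mul, Units.val_mul, ← mulVec_mulVec, hhr]
    simp only [mulVec_add, mulVec_smul, map_add, map_smul, LinearMap.add_apply, LinearMap.smul_apply, smul_eq_mul,
      B_self, zero_add, hga, hgw, hra, hrw, mul_one]
  letI : Algebra (ZMod 2) F := ZMod.algebra F 2
  obtain ⟨ℓ, hℓ⟩ : ∃ ℓ : F →ₗ[ZMod 2] ZMod 2, ℓ 1 = 1 := by
    by_contra hno
    push Not at hno
    refine one_ne_zero ((Module.forall_dual_apply_eq_zero_iff (ZMod 2) (1 : F)).1 fun ℓ => ?_)
    rcases zmod_two_cases (ℓ 1) with e | e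
    · exact e
    · exact absurd e (hno ℓ)
  let χ : (S : Subgroup P) →* Multiplicative (ZMod 2) :=
    MonoidHom.mk' (fun g => Multiplicative.ofAdd (ℓ (B (((g : P) : GL4).1 *ᵥ r) r))) fun g h => by
      rw [← ofAdd_add, ← map_add, ← hadd g h g.2 h.2]
      rfl
  have hχ : ∀ s (hs : Ctr P s) (h : (⟨_, hs.2⟩ : P) ∈ (S : Subgroup P)), χ ⟨_, h⟩ = Multiplicative.ofAdd 1 :=
    fun s hs h => by
      show Multiplicative.ofAdd (ℓ (B ((spTrv s 1 : GL4).1 *ᵥ r) r)) = _
      rw [spTrv_apply, map_add, map_smul, LinearMap.add_apply, LinearMap.smul_apply, B_self, zero_add, one_mul,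
        smul_eq_mul, B_comm s r, hone s hs h, mul_one, hℓ]
  let M : Subgroup P := χ.ker.map (S : Subgroup P).subtype
  have hsurj : Function.Surjective χ := fun y => by
    rcases zmod_two_cases y.toAdd with e | e
    · exact ⟨1, by rw [map_one]; exact (toAdd_eq_zero.1 e).symm⟩
    · exact ⟨⟨t, htS⟩, by rw [hχ a ha htS, ← e]; rfl⟩
  have hrel : M.relIndex (S : Subgroup P) = 2 := by
    rw [show M.relIndex (S : Subgroup P) = χ.ker.index from by
      rw [Subgroup.relIndex, ← Subgroup.comap_subtype, Subgroup.comap_map_eq_self_of_injective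
        (Subgroup.subtype_injective _)], Subgroup.index_ker, MonoidHom.range_eq_top.2 hsurj, Subgroup.card_top,
      Nat.card_congr Multiplicative.toAdd, Nat.card_zmod]
  obtain ⟨g, hg⟩ := Involutions.ThompsonTransfer.exists_conj_mem (no_index_two hC) S M
    (Subgroup.map_subtype_le _) hrel t hot
  rw [hconj g a ha] at hg
  obtain ⟨⟨x, hxS⟩, hxk, hxe⟩ := hg
  change x = _ at hxe
  subst hxe
  have := MonoidHom.mem_ker.1 hxk
  rw [hχ _ (ctr_map hC g.2 ha) hxS] at this
  exact one_ne_zero (congrArg Multiplicative.toAdd this)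

end Cfsg.Agent.SpFourEven.Trv
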