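import Mathlib
import Cfsg.Agent.Lib.SpFourEven.Trv.Thick
import Cfsg.Agent.Lib.SpFourEven.Trv.Transfer

/-!
# A simple irreducible subgroup of `Sp₄(q)`, `q` even, with a transvection
-/

set_option autoImplicit false
set_option linter.unusedSectionVars false
set_option linter.style.haveILetI false

namespace Cfsg.Agent.SpFourEven.Trv

open Matrix Cfsg.Agent.Aschbacher Cfsg.Agent.Forms.SympStd Cfsg.Agent.Forms.Max

variable {F : Type*} [Field F] [Fintype F] [CharP F 2] {P : Subgroup (GL (Fin 2 ⊕ Fin 2) F)}

/-- the group is rational over a proper subfield or is the whole symplectic group -/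
theorem full_or_rational (hC : Core P) (h4 : 4 ≤ Fintype.card F) (ht : HasTrv P) :
    P = Cfsg.spGL 2 F ∨ ∃ K : Subfield F, K ≠ ⊤ ∧ Cfsg.Geo.RealisableOver K (Cfsg.Geo.matrixSet P) := by
  classical
  haveI : Fact (Nat.Prime 2) := ⟨Nat.prime_two⟩
  by_cases hthin : Thin P
  swap
  · simp only [Thin] at hthin
    push Not at hthin
    obtain ⟨u, k, hu, hk, k0, k1⟩ := hthin
    exact thick_case hC ht h4 hu hk k0 k1
  let K : Subfield F := (ZMod.castHom (dvd_refl 2) F).fieldRange
  refine Or.inr ⟨K, fun e => ?_, rational hC ht K fun a b ha hb => ?_⟩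
  · have hs : Finset.univ ⊆ ({0, 1} : Finset F) := fun x _ => by
      obtain ⟨z, rfl⟩ : x ∈ K := e ▸ Subfield.mem_top x
      rcases zmod_two_cases z with rfl | rfl
      · simp
      · simp
    have := Finset.card_le_card hs
    rw [Finset.card_univ, Finset.card_pair zero_ne_one] at this
    omega
  · by_contra h
    refine thin_false hC ht hthin ha hb ?_ ?_ <;> intro e <;> rw [e] at h
    exacts [h (zero_mem K), h (one_mem K)]

end Cfsg.Agent.SpFourEven.Trv
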